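import Cfsg.Agent.H653.ThE.Count
import Cfsg.Agent.H513.NilpTh

/-!
# Thompson's group: elements of order 2, 4, 8, 16 (helper653)
-/

set_option autoImplicit false
set_option maxRecDepth 100000
set_option linter.unusedSectionVars false

namespace Cfsg.Agent.H653.ThE

open Subgroup
open Cfsg.Agent.Th.Base Cfsg.Agent.Th.Word Cfsg.Agent.Th.RelWords Cfsg.Agent.Th.PermTab
  Cfsg.Agent.Th.KOracle Cfsg.Agent.Th.KPerm Cfsg.Agent.Th.NineAct Cfsg.Agent.Th.CStruct
  Cfsg.Agent.Th.COracleDef Cfsg.Agent.Th.COracleSound Cfsg.Agent.Th.IndexUpper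
open Cfsg.Agent.KFacts.Th.Mask Cfsg.Agent.KFacts.Th.Struct
open Cfsg.Agent.CpAutTh.Data Cfsg.Agent.CpAutTh.Alt Cfsg.Agent.CpAutTh.Local
open Cfsg.Agent.ThType.CSideModel (pw Basis ι lo hi par4 nmul app img Acts ι_nmul ι_zero ι_z ι_gen)
open Cfsg.Agent.ThType.CSideWords (ninv ι_ninv ι_congr)
open Cfsg.Agent.H904.SV.Th (wd wd_isC)

universe u

theorem card_cent_of_isConj {H : Type u} [Group H] {x y : H} (hxy : IsConj x y) :
    Nat.card (centralizer ({x} : Set H)) = Nat.card (centralizer ({y} : Set H)) := by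
  obtain ⟨g, rfl⟩ := isConj_iff.1 hxy
  refine Nat.card_congr
    { toFun := fun t => ⟨g * t.1 * g⁻¹, ?_⟩
      invFun := fun t => ⟨g⁻¹ * t.1 * g, ?_⟩
      left_inv := fun t => Subtype.ext (by group)
      right_inv := fun t => Subtype.ext (by group) }
  · have h1 := mem_centralizer_singleton_iff.1 t.2
    rw [mem_centralizer_singleton_iff]
    calc g * t.1 * g⁻¹ * (g * x * g⁻¹) = g * (t.1 * x) * g⁻¹ := by group
      _ = _ := by rw [h1]; group
  · have h1 := mem_centralizer_singleton_iff.1 t.2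
    rw [mem_centralizer_singleton_iff]
    calc g⁻¹ * t.1 * g * x = g⁻¹ * (t.1 * (g * x * g⁻¹)) * g := by group
      _ = _ := by rw [h1]; group

theorem count240 : Fintype.card {n : Fin 512 // goodA4 n = true} = 240 := by decide +kernel

section

variable {G : Type u} [Group G] {γ : ℕ → G} (h : Ctx γ)
  {f : sub γ isC →* alternatingGroup (Fin 9)} (F : Epi γ f)
include h F

theorem pow_wd1 : ev γ (wd 1) ^ 2 = γ 1 := H904.SV.Th.pow_a h 1
theorem pow_wd2 : ev γ (wd 2) ^ 2 = γ 1 := H904.SV.Th.pow_a h 2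
theorem pow_wd6 : ev γ (wd 6) ^ 4 = γ 1 := H904.SV.Th.pow_a h 6
theorem pow_wd7 : ev γ (wd 7) ^ 4 = γ 1 := H904.SV.Th.pow_a h 7

/-- the centralizer of the elements of class 4A -/
theorem card4A : 240 * Nat.card (centralizer ({ev γ (wd 1)} : Set G)) = 92897280 := by
  have B := basis h
  have hfin := h.fin
  have hfinC := finC h
  have hcx := card_conj (⟨ev γ (wd 1), ev_mem_sub (wd_isC 1)⟩ : sub γ isC)
  rw [card_cent_C h (wd_isC 1) (pow_wd1 h F), h.cardC] at hcx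
  have hc : Nat.card {y : sub γ isC // IsConj (⟨ev γ (wd 1), ev_mem_sub (wd_isC 1)⟩ : sub γ isC) y} = 240 := by
    rw [← count240, ← Nat.card_eq_fintype_card]
    symm
    have A : Acts (γ 1) (bx γ) (ev γ yA4) LA4 := acts h actCA4
    have hcj : ∀ n : {n : Fin 512 // goodA4 n = true},
        IsConj (⟨ev γ (wd 1), ev_mem_sub (wd_isC 1)⟩ : sub γ isC) ⟨ι (γ 1) (bx γ) n.1, h.Q_le (ι_mem h _)⟩ := by
      intro n
      obtain ⟨c, hc, hc2⟩ := orbit h A gA4 (chkG_sound h genCA4) orbCA4 n.1.2 n.2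
      rw [show ev γ yA4 = 1 from rfl, mul_one, mul_one] at hc2
      refine isConj_iff.2 ⟨⟨c, hc⟩, Subtype.ext ?_⟩
      change c * ev γ (wd 1) * c⁻¹ = ι (γ 1) (bx γ) n.1
      rw [← hc2, ← wd1_eq h]
    refine Nat.card_congr (Equiv.ofBijective (fun n => ⟨⟨ι (γ 1) (bx γ) n.1, h.Q_le (ι_mem h _)⟩, hcj n⟩) ⟨?_, ?_⟩)
    · intro m n hmn
      have h1 : ι (γ 1) (bx γ) m.1 = ι (γ 1) (bx γ) n.1 := congrArg (fun t => ((t.1 : sub γ isC) : G)) hmn
      exact Subtype.ext (Fin.ext (ι_inj h m.1.2 n.1.2 h1))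
    · rintro ⟨⟨y, hyC⟩, hy⟩
      obtain ⟨g, hg⟩ := isConj_iff.1 hy
      have hg' : (g : G) * ev γ (wd 1) * (g : G)⁻¹ = y := congrArg Subtype.val hg
      have hyQ : y ∈ Q0 γ := by
        rw [← hg', wd1_eq h]
        have h1 := h.Q_conj (Subgroup.inv_mem _ g.2) (ι_mem h 510)
        rwa [inv_inv] at h1
      obtain ⟨n, hn, rfl⟩ := exists_code h hyQ
      have h2 : (ι (γ 1) (bx γ) n * ev γ yA4) ^ 2 = γ 1 := by
        rw [show ev γ yA4 = 1 from rfl, mul_one, ← hg']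
        exact conj_pow_z h g.2 (pow_wd1 h F)
      rw [sq_coset h A (p := 0) (by rw [show ev γ yA4 = 1 from rfl, ι_zero, one_pow])] at h2
      have h3 := ι_eq_z h (blt_of bound_one hn) h2
      refine ⟨⟨⟨n, hn⟩, ?_⟩, rfl⟩
      unfold goodA4
      rw [Nat.beq_eq]
      exact h3
  rw [hc] at hcx
  exact hcx

end

/-! ### The group `Th` -/

/-- the words of `H904.SV.Th` in `Th` -/
noncomputable def R (n : Fin 21) : Spor.Th := ev gTh (wd n)

instance : Finite Spor.Th := H513.NilpTh.finite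

theorem conj4 {x : Spor.Th} (hx : orderOf x = 4) : IsConj (R 1) x ∨ IsConj (R 2) x := by
  obtain ⟨f, F⟩ := CpAutTh.Local.exists_epi KFacts.Th.Main.ctx
  obtain ⟨g, hg⟩ := ThFive.hone (x ^ 2) (by rw [orderOf_pow, hx]; rfl)
  have h1 : (g * x * g⁻¹) ^ 2 = gTh 1 := by rw [conj_pow]; exact hg
  have h2 : IsConj (g * x * g⁻¹) x := (isConj_iff.2 ⟨g, rfl⟩ : IsConj x (g * x * g⁻¹)).symm
  rcases four KFacts.Th.Main.ctx F h1 with ⟨c, -, hc⟩ | ⟨c, -, hc⟩
  · exact Or.inl ((isConj_iff.2 ⟨c, hc⟩).trans h2)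
  · exact Or.inr ((isConj_iff.2 ⟨c, hc⟩).trans h2)

theorem conj8 {x : Spor.Th} (hx : orderOf x = 8) : IsConj (R 6) x ∨ IsConj (R 7) x := by
  obtain ⟨f, F⟩ := CpAutTh.Local.exists_epi KFacts.Th.Main.ctx
  obtain ⟨g, hg⟩ := ThFive.hone (x ^ 4) (by rw [orderOf_pow, hx]; rfl)
  have h1 : (g * x * g⁻¹) ^ 4 = gTh 1 := by rw [conj_pow]; exact hg
  have h2 : IsConj (g * x * g⁻¹) x := (isConj_iff.2 ⟨g, rfl⟩ : IsConj x (g * x * g⁻¹)).symm
  rcases eight KFacts.Th.Main.ctx F h1 with ⟨c, -, hc⟩ | ⟨c, -, hc⟩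
  · exact Or.inl ((isConj_iff.2 ⟨c, hc⟩).trans h2)
  · exact Or.inr ((isConj_iff.2 ⟨c, hc⟩).trans h2)

theorem no16 (x : Spor.Th) : orderOf x ≠ 16 := by
  intro hx
  obtain ⟨f, F⟩ := CpAutTh.Local.exists_epi KFacts.Th.Main.ctx
  obtain ⟨g, hg⟩ := ThFive.hone (x ^ 8) (by rw [orderOf_pow, hx]; rfl)
  have h1 : (g * x * g⁻¹) ^ 8 = gTh 1 := by rw [conj_pow]; exact hg
  exact sixteen KFacts.Th.Main.ctx F h1

theorem cent4A {x : Spor.Th} (hx : IsConj (R 1) x) : Nat.card (centralizer ({x} : Set Spor.Th)) = 387072 := by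
  obtain ⟨f, F⟩ := CpAutTh.Local.exists_epi KFacts.Th.Main.ctx
  have h1 := card4A KFacts.Th.Main.ctx F
  rw [← card_cent_of_isConj hx]
  change 240 * Nat.card (centralizer ({R 1} : Set Spor.Th)) = _ at h1
  omega

/-- the centralizers of permutations -/
theorem cp2 : Nat.card (centralizer ({pm9 (wd 2)} : Set (Equiv.Perm (Fin 9)))) = 960 := by
  rw [Equiv.Perm.nat_card_centralizer, H904.SV.Th.wd_ty]
  decide

theorem cp6 : Nat.card (centralizer ({pm9 (wd 6)} : Set (Equiv.Perm (Fin 9)))) = 384 := by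
  rw [Equiv.Perm.nat_card_centralizer, H904.SV.Th.wd_ty]
  decide

theorem cp7 : Nat.card (centralizer ({pm9 (wd 7)} : Set (Equiv.Perm (Fin 9)))) = 48 := by
  rw [Equiv.Perm.nat_card_centralizer, H904.SV.Th.wd_ty]
  decide

theorem cent4B {x : Spor.Th} (hx : IsConj (R 2) x) : Nat.card (centralizer ({x} : Set Spor.Th)) ∣ 512 * 960 ∧
    480 ≤ Nat.card (centralizer ({x} : Set Spor.Th)) := by
  obtain ⟨f, F⟩ := CpAutTh.Local.exists_epi KFacts.Th.Main.ctx
  rw [← card_cent_of_isConj hx]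
  have h1 := cent_dvd KFacts.Th.Main.ctx F (wd_isC 2) (pow_wd2 KFacts.Th.Main.ctx F)
  have h2 := cent_ge KFacts.Th.Main.ctx F (wd_isC 2) (pow_wd2 KFacts.Th.Main.ctx F)
  rw [cp2] at h1 h2
  exact ⟨h1, by change 960 ≤ 2 * Nat.card (centralizer ({R 2} : Set Spor.Th)) at h2; omega⟩

theorem cent8A {x : Spor.Th} (hx : IsConj (R 6) x) : Nat.card (centralizer ({x} : Set Spor.Th)) ∣ 512 * 384 ∧
    192 ≤ Nat.card (centralizer ({x} : Set Spor.Th)) := by
  obtain ⟨f, F⟩ := CpAutTh.Local.exists_epi KFacts.Th.Main.ctx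
  rw [← card_cent_of_isConj hx]
  have h1 := cent_dvd KFacts.Th.Main.ctx F (wd_isC 6) (pow_wd6 KFacts.Th.Main.ctx F)
  have h2 := cent_ge KFacts.Th.Main.ctx F (wd_isC 6) (pow_wd6 KFacts.Th.Main.ctx F)
  rw [cp6] at h1 h2
  exact ⟨h1, by change 384 ≤ 2 * Nat.card (centralizer ({R 6} : Set Spor.Th)) at h2; omega⟩

theorem cent8B {x : Spor.Th} (hx : IsConj (R 7) x) : Nat.card (centralizer ({x} : Set Spor.Th)) ∣ 512 * 48 ∧
    24 ≤ Nat.card (centralizer ({x} : Set Spor.Th)) := by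
  obtain ⟨f, F⟩ := CpAutTh.Local.exists_epi KFacts.Th.Main.ctx
  rw [← card_cent_of_isConj hx]
  have h1 := cent_dvd KFacts.Th.Main.ctx F (wd_isC 7) (pow_wd7 KFacts.Th.Main.ctx F)
  have h2 := cent_ge KFacts.Th.Main.ctx F (wd_isC 7) (pow_wd7 KFacts.Th.Main.ctx F)
  rw [cp7] at h1 h2
  exact ⟨h1, by change 48 ≤ 2 * Nat.card (centralizer ({R 7} : Set Spor.Th)) at h2; omega⟩

/-! ### Fields of `ThFacts` -/

theorem c2 (g : Spor.Th) (hg : orderOf g = 2) : ¬ 3 ^ 5 ∣ Nat.card (Subgroup.centralizer {g}) := by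
  rw [H513.NilpTh.card_inv hg]
  decide

theorem d5 (g : Spor.Th) (hg : orderOf g = 2) : ¬ 25 ∣ Nat.card (Subgroup.centralizer {g}) := by
  rw [H513.NilpTh.card_inv hg]
  decide

theorem d7 (g : Spor.Th) (hg : orderOf g = 2) : ¬ 49 ∣ Nat.card (Subgroup.centralizer {g}) := by
  rw [H513.NilpTh.card_inv hg]
  decide

theorem c4A {g : Spor.Th} (hg : IsConj (R 1) g) : ¬ 3 ^ 4 ∣ Nat.card (Subgroup.centralizer {g}) := by
  rw [cent4A hg]
  decide

theorem c4B {g : Spor.Th} (hg : IsConj (R 2) g) : ¬ 3 ^ 2 ∣ Nat.card (Subgroup.centralizer {g}) := by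
  intro h
  exact absurd (h.trans (cent4B hg).1) (by decide)

theorem c8 (g : Spor.Th) (hg : orderOf g = 8) : ¬ 3 ^ 2 ∣ Nat.card (Subgroup.centralizer {g}) := by
  intro h
  rcases conj8 hg with h1 | h1
  · exact absurd (h.trans (cent8A h1).1) (by decide)
  · exact absurd (h.trans (cent8B h1).1) (by decide)

theorem n2 : 92897280 * Nat.card {g : Spor.Th // orderOf g = 2} ≤ Nat.card Spor.Th := by
  have h1 := card_conj (gTh 1)
  have ha : orderOf (gTh 1) = 2 :=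
    orderOf_eq_prime (by rw [pow_two]; exact KFacts.Th.Main.ctx.aa) KFacts.Th.Main.ctx.a1
  rw [H513.NilpTh.card_inv ha, mul_comm] at h1
  rw [← h1]
  refine Nat.mul_le_mul_left _ (Nat.card_le_card_of_injective
    (fun g : {g : Spor.Th // orderOf g = 2} => (⟨g.1, ?_⟩ : {y : Spor.Th // IsConj (gTh 1) y})) ?_)
  · obtain ⟨c, hc⟩ := ThFive.hone g.1 g.2
    exact (isConj_iff.2 ⟨c, hc⟩ : IsConj g.1 (gTh 1)).symm
  · intro a b hab
    exact Subtype.ext (congrArg (fun t => t.1) hab)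

theorem count4A : Nat.card {y : Spor.Th // IsConj (R 1) y} * 387072 = Nat.card Spor.Th := by
  have h1 := card_conj (R 1)
  rwa [cent4A (IsConj.refl _)] at h1

theorem n4A : 6300 * Nat.card {y : Spor.Th // IsConj (R 1) y} ≤ Nat.card Spor.Th := by
  rw [← count4A, mul_comm]
  exact Nat.mul_le_mul_left _ (by norm_num)

theorem n48 : 181440 * Nat.card {g : Spor.Th // orderOf g = 4 ∨ orderOf g = 8} ≤ 20224 * Nat.card Spor.Th := by
  have h1 := count4A
  have h2 := card_conj (R 2)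
  have h6 := card_conj (R 6)
  have h7 := card_conj (R 7)
  have g2 := Nat.mul_le_mul_left (Nat.card {y : Spor.Th // IsConj (R 2) y}) (cent4B (IsConj.refl _)).2
  have g6 := Nat.mul_le_mul_left (Nat.card {y : Spor.Th // IsConj (R 6) y}) (cent8A (IsConj.refl _)).2
  have g7 := Nat.mul_le_mul_left (Nat.card {y : Spor.Th // IsConj (R 7) y}) (cent8B (IsConj.refl _)).2
  rw [h2] at g2
  rw [h6] at g6
  rw [h7] at g7
  have hle : Nat.card {g : Spor.Th // orderOf g = 4 ∨ orderOf g = 8} ≤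
      Nat.card (({y : Spor.Th // IsConj (R 1) y} ⊕ {y : Spor.Th // IsConj (R 2) y}) ⊕
        ({y : Spor.Th // IsConj (R 6) y} ⊕ {y : Spor.Th // IsConj (R 7) y})) := by
    have hc : ∀ g : {g : Spor.Th // orderOf g = 4 ∨ orderOf g = 8},
        ∃ t : (({y : Spor.Th // IsConj (R 1) y} ⊕ {y : Spor.Th // IsConj (R 2) y}) ⊕
          ({y : Spor.Th // IsConj (R 6) y} ⊕ {y : Spor.Th // IsConj (R 7) y})),
          Sum.elim (Sum.elim (fun y => y.1) (fun y => y.1)) (Sum.elim (fun y => y.1) (fun y => y.1)) t = g.1 := by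
      rintro ⟨g, hg | hg⟩
      · rcases conj4 hg with h | h
        · exact ⟨Sum.inl (Sum.inl ⟨g, h⟩), rfl⟩
        · exact ⟨Sum.inl (Sum.inr ⟨g, h⟩), rfl⟩
      · rcases conj8 hg with h | h
        · exact ⟨Sum.inr (Sum.inl ⟨g, h⟩), rfl⟩
        · exact ⟨Sum.inr (Sum.inr ⟨g, h⟩), rfl⟩
    choose φ hφ using hc
    refine Nat.card_le_card_of_injective φ fun a b hab => Subtype.ext ?_
    rw [← hφ a, ← hφ b, hab]
  rw [Nat.card_sum, Nat.card_sum, Nat.card_sum] at hle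
  omega

end Cfsg.Agent.H653.ThE
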