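import Cfsg.Agent.H653.ThE.Fields
import Cfsg.Agent.H552.Th.FiveTh
import Cfsg.Agent.H871.Th7.Main
import Cfsg.Agent.H227.ThB.Five
import Cfsg.Agent.H227.ThB.Two
import Cfsg.Agent.H853.ThC.Main

/-!
# The facts about Thompson's group used for the character of degree 767637 (helper653)

`thFacts_of` : all the fields of `ThFacts Spor.Th beta` except those on the elements of order 13, 19, 31.
-/

set_option autoImplicit false
set_option maxRecDepth 100000

namespace Cfsg.Agent.H653.ThE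

open Cfsg.Agent.Th.Base Cfsg.Agent.Th.IndexUpper
open Cfsg.Agent.H904.SV.Th (wd wd_isC)
open Cfsg.Agent.H227.ThB (beta_of_isConj)
open Cfsg.Agent.H853.ThC

local notation "bt" => Cfsg.Agent.H227.ThB.beta

theorem bR1 : bt (R 1) = 8 := H227.ThB.beta_wd1
theorem bR2 : bt (R 2) = 0 := H227.ThB.beta_wd2

theorem b4' {g : Spor.Th} (hg : orderOf g = 4) : (IsConj (R 1) g ∧ bt g = 8) ∨ (IsConj (R 2) g ∧ bt g = 0) := by
  rcases conj4 hg with h | h
  · exact Or.inl ⟨h, by rw [← beta_of_isConj h, bR1]⟩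
  · exact Or.inr ⟨h, by rw [← beta_of_isConj h, bR2]⟩

theorem b4 (g : Spor.Th) (hg : orderOf g = 4) : bt g = 0 ∨ bt g = 8 := by
  rcases b4' hg with h | h
  · exact Or.inr h.2
  · exact Or.inl h.2

theorem b8 (g : Spor.Th) (hg : orderOf g = 8) : bt g = 0 := by
  rcases conj8 hg with h | h
  · rw [← beta_of_isConj h]
    exact H227.ThB.beta_wd6
  · rw [← beta_of_isConj h]
    exact H227.ThB.beta_wd7

theorem b7 (g : Spor.Th) (hg : orderOf g = 7) : bt g = 3 := by
  rw [beta_of_isConj (H871.Th7.conj7 g hg)]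
  exact H227.ThB.beta_X7

theorem b14 (g : Spor.Th) (hg : orderOf g = 14) : bt g = -1 := by
  rw [beta_of_isConj (H871.Th7.conj14 g hg)]
  exact H227.ThB.beta_wd12

theorem b28 (g : Spor.Th) (hg : orderOf g = 28) : bt g = 1 := by
  rw [beta_of_isConj (H871.Th7.conj28 g hg)]
  exact H227.ThB.beta_wd17

theorem c4a (g : Spor.Th) (hg : orderOf g = 4) (hb : bt g = 8) :
    ¬ 3 ^ 4 ∣ Nat.card (Subgroup.centralizer {g}) := by
  rcases b4' hg with h | h
  · exact c4A h.1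
  · rw [h.2] at hb
    norm_num at hb

theorem c4b (g : Spor.Th) (hg : orderOf g = 4) (hb : bt g = 0) :
    ¬ 3 ^ 2 ∣ Nat.card (Subgroup.centralizer {g}) := by
  rcases b4' hg with h | h
  · rw [h.2] at hb
    norm_num at hb
  · exact c4B h.1

theorem n4a : 6300 * Nat.card {g : Spor.Th // orderOf g = 4 ∧ bt g = 8} ≤ Nat.card Spor.Th := by
  refine le_trans (Nat.mul_le_mul_left _ (Nat.card_le_card_of_injective
    (fun g : {g : Spor.Th // orderOf g = 4 ∧ bt g = 8} => (⟨g.1, ?_⟩ : {y : Spor.Th // IsConj (R 1) y})) ?_)) n4A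
  · rcases b4' g.2.1 with h | h
    · exact h.1
    · have hb := g.2.2
      rw [h.2] at hb
      norm_num at hb
  · intro a b hab
    exact Subtype.ext (congrArg (fun t => t.1) hab)

/-- the assembly -/
theorem thFacts_of
    (ord : ∀ g : Spor.Th, ¬ 3 ∣ orderOf g →
      orderOf g ∈ ({1, 2, 4, 5, 7, 8, 10, 13, 14, 19, 20, 28, 31} : Finset ℕ))
    (c19 : ∀ g : Spor.Th, orderOf g = 19 → ¬ 3 ∣ Nat.card (Subgroup.centralizer {g}))
    (c31 : ∀ g : Spor.Th, orderOf g = 31 → ¬ 3 ∣ Nat.card (Subgroup.centralizer {g}))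
    (nr31 : ∀ y g : Spor.Th, orderOf y = 31 → g * y * g⁻¹ ≠ y⁻¹)
    (n19 : 19 * Nat.card {g : Spor.Th // orderOf g = 19} ≤ Nat.card Spor.Th)
    (n31 : 31 * Nat.card {g : Spor.Th // orderOf g = 31} ≤ 2 * Nat.card Spor.Th) : ThFacts Spor.Th bt where
  card := H513.NilpTh.card
  gen := H227.ThB.gen
  ord := ord
  b1 := H227.ThB.b1
  b2 := H227.ThB.b2
  b4 := b4
  b8 := b8
  b5 := H227.ThB.b5
  b10 := H227.ThB.b10
  b20 := H227.ThB.b20
  b7 := b7
  b14 := b14
  b28 := b28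
  c2 := c2
  c4a := c4a
  c4b := c4b
  c8 := c8
  c5 := H552.ThFive.th_c5
  c7 := H871.Th7.c7
  c14 := H871.Th7.c14
  c19 := c19
  c20 := H552.ThFive.th_c20
  c28 := H871.Th7.c28
  c31 := c31
  d5 := d5
  d7 := d7
  nr31 := nr31
  n2 := n2
  n4a := n4a
  n48 := n48
  n5 := H552.ThFive.th_n5
  n7 := H871.Th7.n7
  n14 := H871.Th7.n14
  n19 := n19
  n20 := H552.ThFive.th_n20
  n28 := H871.Th7.n28
  n31 := n31

end Cfsg.Agent.H653.ThE
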