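import Cfsg.Agent.H653.ThE.Cyc
import Cfsg.Agent.H491.PB.ThC
import Cfsg.Agent.H653.ThE.Asm

/-!
# Thompson's group: elements of order 13, 19, 31 and the orders of the 3-regular elements (helper653)
-/

set_option autoImplicit false

open Cfsg

namespace Cfsg.Agent.H653.ThE

open Subgroup
open Cfsg.Agent.H676.Deg
open Cfsg.Agent.SmallSimple.ThetaSetup Cfsg.Agent.SmallSimple.ThetaOrtho

theorem card19 {y : Spor.Th} (hy : orderOf y = 19) : Nat.card (centralizer ({y} : Set Spor.Th)) = 19 :=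
  Cfsg.Agent.H491.PB.Th.card_nineteen hy

theorem card31 {y : Spor.Th} (hy : orderOf y = 31) : Nat.card (centralizer ({y} : Set Spor.Th)) = 31 :=
  Cfsg.Agent.H491.PB.Th.card_thirtyone hy

theorem c19 (g : Spor.Th) (hg : orderOf g = 19) : ¬ 3 ∣ Nat.card (Subgroup.centralizer {g}) := by
  rw [card19 hg]
  decide

theorem c31 (g : Spor.Th) (hg : orderOf g = 31) : ¬ 3 ∣ Nat.card (Subgroup.centralizer {g}) := by
  rw [card31 hg]
  decide

/-- one class of elements of order 19 -/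
theorem conj19 {x y : Spor.Th} (hx : orderOf x = 19) (hy : orderOf y = 19) : IsConj x y := by
  have : Fact (Nat.Prime 19) := ⟨by norm_num⟩
  obtain ⟨P, K, hPx, hP, hK, hK1⟩ := exists_self (q := 19) (c := 1) (G := Spor.Th)
    (by rw [H513.NilpTh.card]; norm_num) hx (by rw [card19 hx])
  have he := rel_eq hK hP hK1 (e := 18) (by rw [H513.NilpTh.card]) (by norm_num)
  exact conj_all hP he (by rw [hPx]; exact mem_zpowers x) (by
    rintro rfl
    rw [orderOf_one] at hx
    exact absurd hx (by norm_num)) hy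

theorem n19 : 19 * Nat.card {g : Spor.Th // orderOf g = 19} ≤ Nat.card Spor.Th := by
  obtain ⟨x, hx⟩ := @exists_prime_orderOf_dvd_card' Spor.Th _ _ 19 ⟨by norm_num⟩
    (by rw [H513.NilpTh.card]; norm_num)
  have h1 := H871.Th7.card_conj x (fun g => orderOf g = 19) (fun g hg => conj19 hg hx)
  rwa [card19 hx] at h1

/-- the Sylow 31-subgroup -/
theorem exists31 {x : Spor.Th} (hx : orderOf x = 31) : ∃ (P : Sylow 31 Spor.Th), x ∈ (P : Subgroup Spor.Th) ∧
    Nat.card P = 31 ∧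
    (centralizer ((P : Subgroup Spor.Th) : Set Spor.Th)).relIndex (normalizer ((P : Subgroup Spor.Th) : Set Spor.Th)) =
      15 := by
  have : Fact (Nat.Prime 31) := ⟨by norm_num⟩
  obtain ⟨P, K, hPx, hP, hK, hK1⟩ := exists_self (q := 31) (c := 1) (G := Spor.Th)
    (by rw [H513.NilpTh.card]; norm_num) hx (by rw [card31 hx])
  exact ⟨P, by rw [hPx]; exact mem_zpowers x, hP,
    rel_eq hK hP hK1 (e := 15) (by rw [H513.NilpTh.card]) (by norm_num)⟩

theorem ne_one31 {x : Spor.Th} (hx : orderOf x = 31) : x ≠ 1 := by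
  rintro rfl
  rw [orderOf_one] at hx
  exact absurd hx (by norm_num)

theorem nr31 (y g : Spor.Th) (hy : orderOf y = 31) : g * y * g⁻¹ ≠ y⁻¹ := by
  have : Fact (Nat.Prime 31) := ⟨by norm_num⟩
  obtain ⟨P, hyP, hP, he⟩ := exists31 hy
  intro h
  exact not_conj_inv hP (by norm_num) (by rw [he]; decide) hyP (ne_one31 hy) (isConj_iff.2 ⟨g, h⟩)

theorem n31 : 31 * Nat.card {g : Spor.Th // orderOf g = 31} ≤ 2 * Nat.card Spor.Th := by
  have : Fact (Nat.Prime 31) := ⟨by norm_num⟩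
  obtain ⟨x, hx⟩ := exists_prime_orderOf_dvd_card' (G := Spor.Th) 31 (by rw [H513.NilpTh.card]; norm_num)
  obtain ⟨P, hxP, hP, he⟩ := exists31 hx
  have hx' : orderOf x⁻¹ = 31 := by rw [orderOf_inv, hx]
  have h1 := H871.Th7.card_conj x (fun g => IsConj x g) (fun g hg => hg.symm)
  have h2 := H871.Th7.card_conj x⁻¹ (fun g => IsConj x⁻¹ g) (fun g hg => hg.symm)
  rw [card31 hx] at h1
  rw [card31 hx'] at h2
  have hle : Nat.card {g : Spor.Th // orderOf g = 31} ≤
      Nat.card ({g : Spor.Th // IsConj x g} ⊕ {g : Spor.Th // IsConj x⁻¹ g}) := by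
    have hc : ∀ g : {g : Spor.Th // orderOf g = 31},
        ∃ t : {g : Spor.Th // IsConj x g} ⊕ {g : Spor.Th // IsConj x⁻¹ g},
          Sum.elim (fun y => y.1) (fun y => y.1) t = g.1 := by
      rintro ⟨g, hg⟩
      rcases conj_or hP (e := 15) (by norm_num) (by decide) he hxP (ne_one31 hx) hg with h | h
      · exact ⟨Sum.inl ⟨g, h⟩, rfl⟩
      · exact ⟨Sum.inr ⟨g, h⟩, rfl⟩
    choose φ hφ using hc
    refine Nat.card_le_card_of_injective φ fun a b hab => Subtype.ext ?_
    rw [← hφ a, ← hφ b, hab]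
  rw [Nat.card_sum] at hle
  omega

/-- the order of an element divides the order of the centralizer of each of its powers -/
theorem dvd_cent {z : Spor.Th} {p : ℕ} (hz : p ∣ orderOf z) :
    orderOf (z ^ (orderOf z / p)) = p ∧
      orderOf z ∣ Nat.card (centralizer ({z ^ (orderOf z / p)} : Set Spor.Th)) := by
  refine ⟨orderOf_pow_orderOf_div (orderOf_pos z).ne' hz, ?_⟩
  refine Subgroup.orderOf_dvd_natCard _ (mem_centralizer_singleton_iff.2 ?_)
  exact (Commute.self_pow z _).eq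

/-- **The orders of the 3-regular elements.** -/
theorem ord (g : Spor.Th) (h3 : ¬ 3 ∣ orderOf g) :
    orderOf g ∈ ({1, 2, 4, 5, 7, 8, 10, 13, 14, 19, 20, 28, 31} : Finset ℕ) := by
  by_cases h19 : 19 ∣ orderOf g
  · obtain ⟨h1, h2⟩ := dvd_cent h19
    rw [card19 h1] at h2
    rw [Nat.dvd_antisymm h2 h19]
    decide
  by_cases h31 : 31 ∣ orderOf g
  · obtain ⟨h1, h2⟩ := dvd_cent h31
    rw [card31 h1] at h2
    rw [Nat.dvd_antisymm h2 h31]
    decide
  by_cases h5 : 5 ∣ orderOf g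
  · rcases H552.ThFive.th_ord5 g h5 h3 with h | h | h <;> rw [h] <;> decide
  by_cases h7 : 7 ∣ orderOf g
  · obtain ⟨h1, h2⟩ := dvd_cent h7
    rw [H871.Th7.card7 _ h1] at h2
    -- the divisors of `1176`
    have h8 : orderOf g ∣ 392 := by
      have h9 : Nat.Coprime (orderOf g) 3 := ((Nat.Prime.coprime_iff_not_dvd Nat.prime_three).2 h3).symm
      exact h9.dvd_of_dvd_mul_left (by rw [show 3 * 392 = 1176 by norm_num]; exact h2)
    have h49 : ¬ 49 ∣ orderOf g := by
      intro h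
      exact H871.Th7.no49 _ (dvd_cent h).1
    have h56 : ¬ 56 ∣ orderOf g := by
      intro h
      exact H871.Th7.no56 _ (dvd_cent h).1
    have key : ∀ n ∈ Nat.divisors 392, 7 ∣ n → ¬ 49 ∣ n → ¬ 56 ∣ n → n ∈ ({7, 14, 28} : Finset ℕ) := by
      decide +kernel
    have h10 := key _ (Nat.mem_divisors.2 ⟨h8, by norm_num⟩) h7 h49 h56
    rcases Finset.mem_insert.1 h10 with h | h
    · rw [h]; decide
    rcases Finset.mem_insert.1 h with h | h
    · rw [h]; decide
    · rw [Finset.mem_singleton.1 h]; decide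
  have hd := orderOf_dvd_natCard g
  rw [H513.NilpTh.card, show (90745943887872000 : ℕ) = 19 * (31 * (5 ^ 3 * (7 ^ 2 * (3 ^ 10 * (13 * 2 ^ 15))))) by norm_num]
    at hd
  have hc : ∀ q : ℕ, q.Prime → ¬ q ∣ orderOf g → Nat.Coprime (orderOf g) q := fun q hq h =>
    ((Nat.Prime.coprime_iff_not_dvd hq).2 h).symm
  have hd := (hc 19 (by norm_num) h19).dvd_of_dvd_mul_left hd
  have hd := (hc 31 (by norm_num) h31).dvd_of_dvd_mul_left hd
  have hd := ((hc 5 (by norm_num) h5).pow_right 3).dvd_of_dvd_mul_left hd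
  have hd := ((hc 7 (by norm_num) h7).pow_right 2).dvd_of_dvd_mul_left hd
  have hd := ((hc 3 (by norm_num) h3).pow_right 10).dvd_of_dvd_mul_left hd
  by_cases h13 : 13 ∣ orderOf g
  · have h2 : ¬ 2 ∣ orderOf g := by
      intro h2
      obtain ⟨h4, h5⟩ := dvd_cent h2
      rw [H513.NilpTh.card_inv h4] at h5
      exact absurd (h13.trans h5) (by norm_num)
    have hd := ((hc 2 (by norm_num) h2).pow_right 15).dvd_of_dvd_mul_right hd
    rw [Nat.dvd_antisymm hd h13]
    decide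
  have hd := (hc 13 (by norm_num) h13).dvd_of_dvd_mul_left hd
  obtain ⟨k, hk, hk2⟩ := (Nat.dvd_prime_pow Nat.prime_two).1 hd
  have hk3 : k ≤ 3 := by
    by_contra h4
    have h5 : 16 ∣ orderOf g := by
      rw [hk2]
      exact pow_dvd_pow 2 (show 4 ≤ k by omega)
    exact no16 _ (dvd_cent h5).1
  rw [hk2]
  interval_cases k <;> decide

/-- **The facts about Thompson's group.** -/
theorem thFacts : H853.ThC.ThFacts Spor.Th H227.ThB.beta := thFacts_of ord c19 c31 nr31 n19 n31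

/-- **The character of degree 767637 of Thompson's group.** -/
theorem exists_theta : ∃ θ : Spor.Th → ℂ, IsIrrCharacter Spor.Th θ ∧ θ 1 = 767637 ∧
    (∀ x : Spor.Th, 3 ∣ orderOf x → θ x = 0) ∧ (∀ x : Spor.Th, orderOf x = 19 → θ x = -1) ∧
    (∀ y : Spor.Th, orderOf y = 31 → θ y ^ 2 + θ y + 8 = 0) := H853.ThC.exists_theta thFacts

end Cfsg.Agent.H653.ThE
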