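import Mathlib

/-!
# Even permutations of nine points of order dividing eight (helper653)
-/

set_option autoImplicit false

namespace Cfsg.Agent.H653.ThE

open Equiv Equiv.Perm

theorem multi248 (m : Multiset ℕ) (h : ∀ n ∈ m, n = 2 ∨ n = 4 ∨ n = 8) :
    m = Multiset.replicate (m.count 2) 2 + Multiset.replicate (m.count 4) 4 + Multiset.replicate (m.count 8) 8 := by
  ext n
  rw [Multiset.count_add, Multiset.count_add, Multiset.count_replicate, Multiset.count_replicate,
    Multiset.count_replicate]
  by_cases hn : n ∈ m
  · rcases h n hn with rfl | rfl | rfl <;> simp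
  · have h0 : m.count n = 0 := Multiset.count_eq_zero_of_notMem hn
    split_ifs with h2 h4 h8 h8 h4 h8 h8 <;> subst_vars <;> simp_all

/-- the types of the even permutations of nine points of order dividing eight -/
theorem types {π : Perm (Fin 9)} (hs : sign π = 1) (h8 : π ^ 8 = 1) :
    π.cycleType = 0 ∨ π.cycleType = {2, 2} ∨ π.cycleType = {2, 2, 2, 2} ∨ π.cycleType = {2, 4} ∨
      π.cycleType = {4, 4} := by
  have ho : orderOf π ∣ 8 := orderOf_dvd_of_pow_eq_one h8
  have hm : ∀ n ∈ π.cycleType, n = 2 ∨ n = 4 ∨ n = 8 := by
    intro n hn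
    have h1 : n ∣ 8 := (dvd_of_mem_cycleType hn).trans ho
    have h2 := two_le_of_mem_cycleType hn
    have h3 : n ≤ 8 := Nat.le_of_dvd (by norm_num) h1
    interval_cases n <;> simp_all
  have hsum : π.cycleType.sum ≤ 9 := by
    rw [π.sum_cycleType]
    exact (Finset.card_le_univ _).trans (by rw [Fintype.card_fin])
  have hsg := sign_of_cycleType π
  rw [hs] at hsg
  rw [multi248 _ hm] at hsum hsg ⊢
  generalize π.cycleType.count 2 = a at *
  generalize π.cycleType.count 4 = b at *
  generalize π.cycleType.count 8 = c at *
  simp only [Multiset.sum_add, Multiset.sum_replicate, smul_eq_mul] at hsum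
  simp only [Multiset.sum_add, Multiset.sum_replicate, smul_eq_mul, Multiset.card_add, Multiset.card_replicate] at hsg
  have hc : c ≤ 1 := by omega
  have hb : b ≤ 2 := by omega
  have ha : a ≤ 4 := by omega
  interval_cases c <;> interval_cases b <;> interval_cases a <;> first | omega | skip
  all_goals first
    | (left; rfl)
    | (right; left; rfl)
    | (right; right; left; rfl)
    | (right; right; right; left; rfl)
    | (right; right; right; right; rfl)
    | (exfalso; exact absurd hsg (by decide))

end Cfsg.Agent.H653.ThE
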