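import Cfsg.Agent.H653.ThE.Certs
import Cfsg.Agent.H653.ThE.Types

/-!
# Elements of order 4, 8, 16 of `C(a)` in the Thompson group (helper653)

* `four` : `x ^ 2 = a` implies that `x` is conjugate in `C` to the word `wd 1` or `wd 2`;
* `eight` : `x ^ 4 = a` implies that `x` is conjugate in `C` to the word `wd 6` or `wd 7`;
* `sixteen` : `x ^ 8 ≠ a`.
-/

set_option autoImplicit false
set_option maxRecDepth 100000

namespace Cfsg.Agent.H653.ThE

open Subgroup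
open Cfsg.Agent.Th.Base Cfsg.Agent.Th.Word Cfsg.Agent.Th.RelWords Cfsg.Agent.Th.PermTab
  Cfsg.Agent.Th.KOracle Cfsg.Agent.Th.KPerm Cfsg.Agent.Th.NineAct Cfsg.Agent.Th.CStruct
  Cfsg.Agent.Th.COracleDef Cfsg.Agent.Th.COracleSound
open Cfsg.Agent.KFacts.Th.Mask Cfsg.Agent.KFacts.Th.Struct
open Cfsg.Agent.CpAutTh.Data Cfsg.Agent.CpAutTh.Alt Cfsg.Agent.CpAutTh.Local
open Cfsg.Agent.ThType.CSideModel (pw Basis ι lo hi par4 nmul app img Acts ι_nmul ι_zero ι_z ι_gen)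
open Cfsg.Agent.ThType.CSideWords (ninv ι_ninv ι_congr)
open Cfsg.Agent.H904.SV.Th (wd)

universe u

/-! ### The odd permutations -/

def oB4 : Equiv.Perm (Fin 9) := Equiv.swap 4 7
def oA8 : Equiv.Perm (Fin 9) := Equiv.swap 0 1
def oB8 : Equiv.Perm (Fin 9) := Equiv.swap 4 5

theorem sB4 : Equiv.Perm.sign oB4 = -1 := by decide +kernel
theorem sA8 : Equiv.Perm.sign oA8 = -1 := by decide +kernel
theorem sB8 : Equiv.Perm.sign oB8 = -1 := by decide +kernel

theorem mB4 : oB4 * pm9 yB4 = pm9 yB4 * oB4 := by decide +kernel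
theorem mA8 : oA8 * pm9 yA8 = pm9 yA8 * oA8 := by decide +kernel
theorem mB8 : oB8 * pm9 yB8 = pm9 yB8 * oB8 := by decide +kernel

/-- a four cycle of `pm9 y44` -/
def o44 : Equiv.Perm (Fin 9) := Equiv.swap 1 6 * Equiv.swap 6 4 * Equiv.swap 4 2

/-- the inverse -/
def o44' : Equiv.Perm (Fin 9) := Equiv.swap 4 2 * Equiv.swap 6 4 * Equiv.swap 1 6

theorem s44 : Equiv.Perm.sign o44 = -1 ∧ Equiv.Perm.sign o44' = -1 := by decide +kernel
theorem m44 : o44 * pm9 y44 = pm9 y44 * o44 ∨ o44' * pm9 y44 = pm9 y44 * o44' := by decide +kernel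

theorem ex44 : ∃ c : Equiv.Perm (Fin 9), Equiv.Perm.sign c = -1 ∧ c * pm9 y44 = pm9 y44 * c := by
  rcases m44 with h | h
  · exact ⟨_, s44.1, h⟩
  · exact ⟨_, s44.2, h⟩

theorem tyB4 : (pm9 yB4).cycleType = {2, 2} := by decide +kernel
theorem tyA8 : (pm9 yA8).cycleType = {2, 2, 2, 2} := by decide +kernel
theorem tyB8 : (pm9 yB8).cycleType = {2, 4} := by decide +kernel
theorem ty44 : (pm9 y44).cycleType = {4, 4} := by decide +kernel

theorem isB4 : ∀ x ∈ yB4, isC x = true := by decide +kernel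
theorem isA8 : ∀ x ∈ yA8, isC x = true := by decide +kernel
theorem isB8 : ∀ x ∈ yB8, isC x = true := by decide +kernel
theorem is44 : ∀ x ∈ y44, isC x = true := by decide +kernel

theorem wd1_code : corc (wd 1 ++ iw (wcode 510)) = true := by decide +kernel

theorem pow4 {G : Type u} [Group G] (x : G) : x ^ 4 = x * x * x * x := by
  rw [pow_succ, pow_succ, pow_succ, pow_one]

theorem nmul_self_lt (m : ℕ) : nmul m m < 512 := by
  unfold nmul
  have h6 : Nat.xor m m = 0 := Nat.xor_self _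
  rw [h6]
  have h7 : par4 (Nat.land (Nat.shiftRight m 4) m) ≤ 1 := Nat.and_le_right
  have h8 : ∀ v : ℕ, v ≤ 1 → Nat.xor 0 (Nat.shiftLeft v 8) < 512 := by
    intro v hv
    interval_cases v <;> decide
  exact h8 _ h7

theorem blt_of {p : ℕ → ℕ} (hb : allB 512 (fun n => Nat.blt (p n) 512) = true) {n : ℕ} (hn : n < 512) :
    p n < 512 := by
  have h1 := (allB_iff _ _).1 hb n hn
  simpa using h1

section

variable {G : Type u} [Group G] {γ : ℕ → G} (h : Ctx γ)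
include h

theorem chkG_sound {y : List ℕ} {cs : List (List ℕ)} {gs : List (List ℕ × ℕ)} (hc : chkG y cs gs = true) :
    ∀ g ∈ gs, ∃ c : G, Acts (γ 1) (bx γ) c g.1 ∧ c * ev γ y * c⁻¹ = ι (γ 1) (bx γ) g.2 * ev γ y := by
  unfold chkG at hc
  rw [Bool.and_eq_true, allB_iff] at hc
  intro g hg
  obtain ⟨i, hi, rfl⟩ := List.getElem_of_mem hg
  have h1 := hc.2 i hi
  rw [Bool.and_eq_true, List.getD_eq_getElem _ _ hi] at h1
  refine ⟨ev γ (cs.getD i []), acts h h1.1, ?_⟩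
  have h2 := ev_one h h1.2
  rw [ev_append, ev_append, ev_append, ev_append, ev_iw h.inv, ev_iw h.inv, ev_iw h.inv, ev_wcode] at h2
  rw [← mul_inv_eq_one, ← h2, mul_inv_rev]
  group

theorem ι_eq_z {n : ℕ} (hn : n < 512) (e : ι (γ 1) (bx γ) n = γ 1) : n = 256 :=
  ι_inj h hn (by norm_num) (e.trans ι_z.symm)

theorem wd1_eq : ev γ (wd 1) = ι (γ 1) (bx γ) 510 := by
  have h1 := ev_one h wd1_code
  rw [ev_append, ev_iw h.inv, ev_wcode, mul_inv_eq_one] at h1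
  exact h1

theorem sqB4 : ev γ yB4 ^ 2 = ι (γ 1) (bx γ) 256 := by
  have h1 := ev_one h powCB4
  rw [ev_append, ev_append, ev_iw h.inv, ev_wcode, ← mul_assoc, mul_inv_eq_one] at h1
  rw [← h1, pow_two]

theorem sqA8 : ev γ yA8 ^ 2 = ι (γ 1) (bx γ) 254 := by
  have h1 := ev_one h powCA8
  rw [ev_append, ev_append, ev_iw h.inv, ev_wcode, ← mul_assoc, mul_inv_eq_one] at h1
  rw [← h1, pow_two]

theorem fourB8 : ev γ yB8 ^ 4 = ι (γ 1) (bx γ) 256 := by
  have h1 := ev_one h powCB8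
  rw [ev_append, ev_append, ev_append, ev_append, ev_iw h.inv, ev_wcode, ← mul_assoc, ← mul_assoc, ← mul_assoc,
    mul_inv_eq_one] at h1
  rw [← h1, pow4]

theorem four44 : ev γ y44 ^ 4 = ι (γ 1) (bx γ) 511 := by
  have h1 := ev_one h powC44
  rw [ev_append, ev_append, ev_append, ev_append, ev_iw h.inv, ev_wcode, ← mul_assoc, ← mul_assoc, ← mul_assoc,
    mul_inv_eq_one] at h1
  rw [← h1, pow4]

/-- fourth powers of `Q` -/
theorem Q_four {q : G} (hq : q ∈ Q0 γ) : q ^ 4 = 1 := by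
  have B := basis h
  obtain ⟨n, hn, rfl⟩ := exists_code h hq
  have h1 := (allB_iff _ _).1 four_Q n hn
  rw [Nat.beq_eq] at h1
  rw [← ι_zero (z := γ 1) (x := bx γ), ← h1, ι_nmul B, ι_nmul B, pow4]
  simp only [mul_assoc]

variable {f : sub γ isC →* alternatingGroup (Fin 9)} (F : Epi γ f)
include F

/-- conjugation into a coset -/
theorem to_coset {wy : List ℕ} (hy : ∀ x ∈ wy, isC x = true) {x : G} (hx : x ∈ sub γ isC)
    (ht : ((f ⟨x, hx⟩ : alternatingGroup (Fin 9)) : Equiv.Perm (Fin 9)).cycleType = (pm9 wy).cycleType)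
    (c : Equiv.Perm (Fin 9)) (hc : Equiv.Perm.sign c = -1) (hcc : c * pm9 wy = pm9 wy * c) :
    ∃ g ∈ sub γ isC, ∃ n < 512, g * x * g⁻¹ = ι (γ 1) (bx γ) n * ev γ wy := by
  have e := F.word wy hy
  obtain ⟨π, hπ⟩ := conjA (f ⟨x, hx⟩) (f ⟨ev γ wy, ev_mem_sub hy⟩) (by rw [e, ht]) c hc (by rw [e, hcc])
  obtain ⟨g, rfl⟩ := F.surj π
  have h1 : g * ⟨x, hx⟩ * g⁻¹ * (⟨ev γ wy, ev_mem_sub hy⟩ : sub γ isC)⁻¹ ∈ f.ker := by
    rw [MonoidHom.mem_ker, map_mul, map_mul, map_mul, map_inv, map_inv, hπ, mul_inv_cancel]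
  have h2 := (mem_ker F).1 h1
  obtain ⟨n, hn, hq⟩ := exists_code h h2
  refine ⟨g, g.2, n, hn, ?_⟩
  rw [← hq]
  change (g : G) * x * (g : G)⁻¹ = ((g : G) * x * (g : G)⁻¹ * (ev γ wy)⁻¹) * ev γ wy
  group

omit F in
/-- powers are conjugate in `C` -/
theorem conj_pow_z {x g : G} (hg : g ∈ sub γ isC) {k : ℕ} (hx : x ^ k = γ 1) : (g * x * g⁻¹) ^ k = γ 1 := by
  rw [conj_pow, hx, mul_inv_eq_iff_eq_mul]
  exact h.mem_C.1 hg

omit F in
theorem mem_C_of_pow {x : G} {k : ℕ} (hx : x ^ k = γ 1) : x ∈ sub γ isC := by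
  rw [h.mem_C, ← hx]
  exact (Commute.self_pow x k).eq

omit h in
/-- the type of the image -/
theorem im_types {x : G} (hxC : x ∈ sub γ isC) (h16 : x ^ 8 ∈ Q0 γ) :
    let π := ((f ⟨x, hxC⟩ : alternatingGroup (Fin 9)) : Equiv.Perm (Fin 9))
    π.cycleType = 0 ∨ π.cycleType = {2, 2} ∨ π.cycleType = {2, 2, 2, 2} ∨ π.cycleType = {2, 4} ∨
      π.cycleType = {4, 4} := by
  refine types (Equiv.Perm.mem_alternatingGroup.1 (f ⟨x, hxC⟩).2) ?_
  have h1 : (⟨x, hxC⟩ : sub γ isC) ^ 8 ∈ f.ker := (mem_ker F).2 h16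
  rw [MonoidHom.mem_ker, map_pow] at h1
  exact congrArg Subtype.val h1

omit h in
theorem mem_Q {x : G} (hxC : x ∈ sub γ isC)
    (ht : ((f ⟨x, hxC⟩ : alternatingGroup (Fin 9)) : Equiv.Perm (Fin 9)).cycleType = 0) : x ∈ Q0 γ := by
  have h1 : (⟨x, hxC⟩ : sub γ isC) ∈ f.ker := by
    rw [MonoidHom.mem_ker]
    exact Subtype.ext (Equiv.Perm.cycleType_eq_zero.1 ht)
  exact (mem_ker F).1 h1

omit F in
theorem z_mem : γ 1 ∈ Q0 γ := by
  have h1 := ι_mem h 256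
  rwa [ι_z] at h1

/-- **Elements of order 4.** -/
theorem four {x : G} (hx : x ^ 2 = γ 1) :
    (∃ g ∈ sub γ isC, g * ev γ (wd 1) * g⁻¹ = x) ∨ ∃ g ∈ sub γ isC, g * ev γ (wd 2) * g⁻¹ = x := by
  have B := basis h
  have hxC := mem_C_of_pow h hx
  have h8 : x ^ 8 = 1 := by
    rw [show x ^ 8 = (x ^ 2) ^ 2 * (x ^ 2) ^ 2 by group, hx, pow_two, h.aa, one_mul]
  have h4 : x ^ 4 = 1 := by
    rw [show x ^ 4 = (x ^ 2) ^ 2 by group, hx, pow_two, h.aa]
  rcases im_types F hxC (by rw [h8]; exact Subgroup.one_mem _) with ht | ht | ht | ht | ht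
  · left
    obtain ⟨n, hn, rfl⟩ := exists_code h (mem_Q F hxC ht)
    have A : Acts (γ 1) (bx γ) (ev γ yA4) LA4 := acts h actCA4
    have h1 : (ι (γ 1) (bx γ) n * ev γ yA4) ^ 2 = γ 1 := by
      rw [show ev γ yA4 = 1 from rfl, mul_one]
      exact hx
    rw [sq_coset h A (p := 0) (by rw [show ev γ yA4 = 1 from rfl, ι_zero, one_pow])] at h1
    have h2 := ι_eq_z h (blt_of bound_one hn) h1
    obtain ⟨c, hc, hc2⟩ := orbit h A gA4 (chkG_sound h genCA4) orbCA4 hn (by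
      unfold goodA4
      rw [Nat.beq_eq]
      exact h2)
    refine ⟨c, hc, ?_⟩
    rw [show ev γ yA4 = 1 from rfl, mul_one, mul_one] at hc2
    rw [wd1_eq h, hc2]
  · right
    obtain ⟨g, hg, n, hn, e⟩ := to_coset h F isB4 hxC (by rw [ht, tyB4]) oB4 sB4 mB4
    have A : Acts (γ 1) (bx γ) (ev γ yB4) LB4 := acts h actCB4
    have h1 := conj_pow_z h hg hx
    rw [e, sq_coset h A (sqB4 h)] at h1
    have h2 := ι_eq_z h (blt_of bound_B4 hn) h1
    obtain ⟨c, hc, hc2⟩ := orbit h A gB4 (chkG_sound h genCB4) orbCB4 hn (by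
      unfold goodB4
      rw [Nat.beq_eq]
      exact h2)
    refine ⟨g⁻¹ * c, Subgroup.mul_mem _ (Subgroup.inv_mem _ hg) hc, ?_⟩
    rw [ι_zero, one_mul, ← e] at hc2
    calc g⁻¹ * c * ev γ (wd 2) * (g⁻¹ * c)⁻¹ = g⁻¹ * (c * ev γ yB4 * c⁻¹) * g := by
          rw [show ev γ (wd 2) = ev γ yB4 from rfl]; group
      _ = x := by rw [hc2]; group
  · exfalso
    obtain ⟨g, hg, n, hn, e⟩ := to_coset h F isA8 hxC (by rw [ht, tyA8]) oA8 sA8 mA8
    have A : Acts (γ 1) (bx γ) (ev γ yA8) LA8 := acts h actCA8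
    have h1 := conj_pow_z h hg hx
    rw [e, sq_coset h A (sqA8 h)] at h1
    have h2 := ι_eq_z h (blt_of bound_A8 hn) h1
    have h3 := (allB_iff _ _).1 sq_A8 n hn
    rw [show s2 LA8 254 n = 256 from h2] at h3
    exact absurd h3 (by decide)
  · exfalso
    have h5 : x ^ 2 ∈ Q0 γ := by rw [hx]; exact z_mem h
    have h6 : (⟨x, hxC⟩ : sub γ isC) ^ 2 ∈ f.ker := (mem_ker F).2 h5
    rw [MonoidHom.mem_ker, map_pow] at h6
    have h7 : orderOf ((f ⟨x, hxC⟩ : alternatingGroup (Fin 9)) : Equiv.Perm (Fin 9)) ∣ 2 :=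
      orderOf_dvd_of_pow_eq_one (congrArg Subtype.val h6)
    rw [← Equiv.Perm.lcm_cycleType, ht] at h7
    exact absurd h7 (by decide)
  · exfalso
    have h5 : x ^ 2 ∈ Q0 γ := by rw [hx]; exact z_mem h
    have h6 : (⟨x, hxC⟩ : sub γ isC) ^ 2 ∈ f.ker := (mem_ker F).2 h5
    rw [MonoidHom.mem_ker, map_pow] at h6
    have h7 : orderOf ((f ⟨x, hxC⟩ : alternatingGroup (Fin 9)) : Equiv.Perm (Fin 9)) ∣ 2 :=
      orderOf_dvd_of_pow_eq_one (congrArg Subtype.val h6)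
    rw [← Equiv.Perm.lcm_cycleType, ht] at h7
    exact absurd h7 (by decide)

/-- **Elements of order 8.** -/
theorem eight {x : G} (hx : x ^ 4 = γ 1) :
    (∃ g ∈ sub γ isC, g * ev γ (wd 6) * g⁻¹ = x) ∨ ∃ g ∈ sub γ isC, g * ev γ (wd 7) * g⁻¹ = x := by
  have B := basis h
  have hxC := mem_C_of_pow h hx
  have h8 : x ^ 8 = 1 := by
    rw [show x ^ 8 = (x ^ 4) ^ 2 by group, hx, pow_two, h.aa]
  rcases im_types F hxC (by rw [h8]; exact Subgroup.one_mem _) with ht | ht | ht | ht | ht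
  · exfalso
    rw [Q_four h (mem_Q F hxC ht)] at hx
    exact h.a1 hx.symm
  · exfalso
    obtain ⟨g, hg, n, hn, e⟩ := to_coset h F isB4 hxC (by rw [ht, tyB4]) oB4 sB4 mB4
    have A : Acts (γ 1) (bx γ) (ev γ yB4) LB4 := acts h actCB4
    have h1 := conj_pow_z h hg hx
    rw [e, show ∀ u : G, u ^ 4 = u ^ 2 * u ^ 2 from fun u => by group, sq_coset h A (sqB4 h), ← ι_nmul B] at h1
    have h2 : nmul (s2 LB4 256 n) (s2 LB4 256 n) % 512 = 256 := by
      refine ι_inj h (Nat.mod_lt _ (by norm_num)) (by norm_num) ?_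
      rw [ι_mod, ι_z]
      exact h1
    have h3 := (allB_iff _ _).1 four_B4 n hn
    rw [Nat.mod_eq_of_lt (nmul_self_lt _)] at h2
    rw [h2] at h3
    exact absurd h3 (by decide)
  · left
    obtain ⟨g, hg, n, hn, e⟩ := to_coset h F isA8 hxC (by rw [ht, tyA8]) oA8 sA8 mA8
    have A : Acts (γ 1) (bx γ) (ev γ yA8) LA8 := acts h actCA8
    have h1 := conj_pow_z h hg hx
    rw [e, show ∀ u : G, u ^ 4 = u ^ 2 * u ^ 2 from fun u => by group, sq_coset h A (sqA8 h), ← ι_nmul B] at h1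
    have h2 : nmul (s2 LA8 254 n) (s2 LA8 254 n) % 512 = 256 := by
      refine ι_inj h (Nat.mod_lt _ (by norm_num)) (by norm_num) ?_
      rw [ι_mod, ι_z]
      exact h1
    rw [Nat.mod_eq_of_lt (nmul_self_lt _)] at h2
    obtain ⟨c, hc, hc2⟩ := orbit h A gA8 (chkG_sound h genCA8) orbCA8 hn (by
      unfold goodA8
      rw [Nat.beq_eq]
      exact h2)
    refine ⟨g⁻¹ * c, Subgroup.mul_mem _ (Subgroup.inv_mem _ hg) hc, ?_⟩
    rw [ι_zero, one_mul, ← e] at hc2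
    calc g⁻¹ * c * ev γ (wd 6) * (g⁻¹ * c)⁻¹ = g⁻¹ * (c * ev γ yA8 * c⁻¹) * g := by
          rw [show ev γ (wd 6) = ev γ yA8 from rfl]; group
      _ = x := by rw [hc2]; group
  · right
    obtain ⟨g, hg, n, hn, e⟩ := to_coset h F isB8 hxC (by rw [ht, tyB8]) oB8 sB8 mB8
    have A : Acts (γ 1) (bx γ) (ev γ yB8) LB8 := acts h actCB8
    have h1 := conj_pow_z h hg hx
    rw [e, four_coset h A (fourB8 h)] at h1
    have h2 := ι_eq_z h (blt_of bound_B8 hn) h1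
    obtain ⟨c, hc, hc2⟩ := orbit h A gB8 (chkG_sound h genCB8) orbCB8 hn (by
      unfold goodB8
      rw [Nat.beq_eq]
      exact h2)
    refine ⟨g⁻¹ * c, Subgroup.mul_mem _ (Subgroup.inv_mem _ hg) hc, ?_⟩
    rw [ι_zero, one_mul, ← e] at hc2
    calc g⁻¹ * c * ev γ (wd 7) * (g⁻¹ * c)⁻¹ = g⁻¹ * (c * ev γ yB8 * c⁻¹) * g := by
          rw [show ev γ (wd 7) = ev γ yB8 from rfl]; group
      _ = x := by rw [hc2]; group
  · exfalso
    obtain ⟨c, hc, hcc⟩ := ex44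
    obtain ⟨g, hg, n, hn, e⟩ := to_coset h F is44 hxC (by rw [ht, ty44]) c hc hcc
    have A : Acts (γ 1) (bx γ) (ev γ y44) L44 := acts h actC44
    have h1 := conj_pow_z h hg hx
    rw [e, four_coset h A (four44 h)] at h1
    have h2 := ι_eq_z h (blt_of bound_44 hn) h1
    have h3 := (allB_iff _ _).1 four_44 n hn
    rw [show s4 L44 511 n = 256 from h2] at h3
    exact absurd h3 (by decide)

/-- **No elements of order 16.** -/
theorem sixteen {x : G} (hx : x ^ 8 = γ 1) : False := by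
  have B := basis h
  have hxC := mem_C_of_pow h hx
  -- the fourth power is in `Q` only for the types with a cycle of length four
  have hsq : x ^ 2 ∈ Q0 γ → False := by
    intro h2
    have h3 := Q_four h h2
    rw [← pow_mul, hx] at h3
    exact h.a1 h3
  rcases im_types F hxC (by rw [hx]; exact z_mem h) with ht | ht | ht | ht | ht
  · exact hsq (Subgroup.pow_mem _ (mem_Q F hxC ht) 2)
  · refine hsq ((mem_ker F (x := (⟨x, hxC⟩ : sub γ isC) ^ 2)).1 ?_)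
    rw [MonoidHom.mem_ker, map_pow]
    apply Subtype.ext
    have h7 := pow_orderOf_eq_one ((f ⟨x, hxC⟩ : alternatingGroup (Fin 9)) : Equiv.Perm (Fin 9))
    rw [← Equiv.Perm.lcm_cycleType, ht] at h7
    exact h7
  · refine hsq ((mem_ker F (x := (⟨x, hxC⟩ : sub γ isC) ^ 2)).1 ?_)
    rw [MonoidHom.mem_ker, map_pow]
    apply Subtype.ext
    have h7 := pow_orderOf_eq_one ((f ⟨x, hxC⟩ : alternatingGroup (Fin 9)) : Equiv.Perm (Fin 9))
    rw [← Equiv.Perm.lcm_cycleType, ht] at h7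
    exact h7
  · obtain ⟨g, hg, n, hn, e⟩ := to_coset h F isB8 hxC (by rw [ht, tyB8]) oB8 sB8 mB8
    have A : Acts (γ 1) (bx γ) (ev γ yB8) LB8 := acts h actCB8
    have h1 := conj_pow_z h hg hx
    rw [e, show ∀ u : G, u ^ 8 = u ^ 4 * u ^ 4 from fun u => by rw [← pow_add], four_coset h A (fourB8 h),
      ← ι_nmul B] at h1
    have h2 : nmul (s4 LB8 256 n) (s4 LB8 256 n) % 512 = 256 := by
      refine ι_inj h (Nat.mod_lt _ (by norm_num)) (by norm_num) ?_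
      rw [ι_mod, ι_z]
      exact h1
    have h3 := (allB_iff _ _).1 eight_B8 n hn
    rw [Nat.mod_eq_of_lt (nmul_self_lt _)] at h2
    rw [h2] at h3
    exact absurd h3 (by decide)
  · obtain ⟨c, hc, hcc⟩ := ex44
    obtain ⟨g, hg, n, hn, e⟩ := to_coset h F is44 hxC (by rw [ht, ty44]) c hc hcc
    have A : Acts (γ 1) (bx γ) (ev γ y44) L44 := acts h actC44
    have h1 := conj_pow_z h hg hx
    rw [e, show ∀ u : G, u ^ 8 = u ^ 4 * u ^ 4 from fun u => by rw [← pow_add], four_coset h A (four44 h),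
      ← ι_nmul B] at h1
    have h2 : nmul (s4 L44 511 n) (s4 L44 511 n) % 512 = 256 := by
      refine ι_inj h (Nat.mod_lt _ (by norm_num)) (by norm_num) ?_
      rw [ι_mod, ι_z]
      exact h1
    have h3 := (allB_iff _ _).1 eight_44 n hn
    rw [Nat.mod_eq_of_lt (nmul_self_lt _)] at h2
    rw [h2] at h3
    exact absurd h3 (by decide)

end

end Cfsg.Agent.H653.ThE
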