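import Cfsg.Agent.H653.ThE.Classes

/-!
# Centralizers of the elements of order 4 and 8 in the Thompson group (helper653)
-/

set_option autoImplicit false
set_option maxRecDepth 100000

namespace Cfsg.Agent.H653.ThE

open Subgroup
open Cfsg.Agent.Th.Base Cfsg.Agent.Th.Word Cfsg.Agent.Th.RelWords Cfsg.Agent.Th.PermTab
  Cfsg.Agent.Th.KOracle Cfsg.Agent.Th.KPerm Cfsg.Agent.Th.NineAct Cfsg.Agent.Th.CStruct
  Cfsg.Agent.Th.COracleDef Cfsg.Agent.Th.COracleSound
open Cfsg.Agent.KFacts.Th.Mask Cfsg.Agent.KFacts.Th.Struct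
open Cfsg.Agent.CpAutTh.Data Cfsg.Agent.CpAutTh.Alt Cfsg.Agent.CpAutTh.Local
open Cfsg.Agent.ThType.CSideModel (pw Basis ι lo hi par4 nmul app img Acts ι_nmul ι_zero ι_z ι_gen)
open Cfsg.Agent.ThType.CSideWords (ninv ι_ninv ι_congr)
open Cfsg.Agent.H904.SV.Th (wd)

universe u

/-- the number of conjugates -/
theorem card_conj {H : Type u} [Group H] (x : H) :
    Nat.card {y : H // IsConj x y} * Nat.card (centralizer ({x} : Set H)) = Nat.card H := by
  have h1 : {y : H // IsConj x y} = (MulAction.orbit (ConjAct H) x : Set H) := by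
    have h2 : {y : H | IsConj x y} = MulAction.orbit (ConjAct H) x := by
      ext y
      rw [Set.mem_ofPred_eq, ConjAct.mem_orbit_conjAct]
      exact isConj_comm
    exact congrArg (fun s : Set H => (s : Type u)) h2
  have h3 := MulAction.index_stabilizer (G := ConjAct H) x
  rw [Subgroup.nat_card_centralizer_nat_card_stabilizer, h1, Nat.card_coe_set_eq, ← h3, mul_comm]
  exact Subgroup.card_mul_index _

section

variable {H A : Type*} [Group H] [Group A]

/-- the order of a group with a map -/
theorem card_dvd_of_hom (φ : H →* A) {m n : ℕ} (hk : Nat.card φ.ker ∣ m) (hr : Nat.card φ.range ∣ n) :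
    Nat.card H ∣ m * n := by
  rw [← Subgroup.card_mul_index φ.ker, Subgroup.index_ker]
  exact Nat.mul_dvd_mul hk hr

end

section

variable {G : Type u} [Group G] {γ : ℕ → G} (h : Ctx γ)
  {f : sub γ isC →* alternatingGroup (Fin 9)} (F : Epi γ f)
include h F

omit F in
/-- the centralizer of an element with a power `a` -/
theorem cent_le {x : G} {k : ℕ} (hx : x ^ k = γ 1) : centralizer ({x} : Set G) ≤ sub γ isC := by
  rw [← h.cent, ← hx]
  intro g hg
  rw [mem_centralizer_singleton_iff] at hg ⊢
  exact ((show Commute g x from hg).pow_right k).eq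

/-- **Divisibility**: the order of the centralizer. -/
theorem cent_dvd {w : List ℕ} (hw : ∀ x ∈ w, isC x = true) {k : ℕ} (hk : ev γ w ^ k = γ 1) :
    Nat.card (centralizer ({ev γ w} : Set G)) ∣ 512 * Nat.card (centralizer ({pm9 w} : Set (Equiv.Perm (Fin 9)))) := by
  have hfin := h.fin
  have hle := cent_le h hk
  let ψ : ↥(centralizer ({ev γ w} : Set G)) →* Equiv.Perm (Fin 9) :=
    (alternatingGroup (Fin 9)).subtype.comp (f.comp (Subgroup.inclusion hle))
  refine card_dvd_of_hom ψ ?_ ?_
  · rw [← h.cardQ]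
    let j : ↥ψ.ker →* ↥(Q0 γ) :=
      { toFun := fun g => ⟨g.1.1, by
          have h1 : f (Subgroup.inclusion hle g.1) = 1 := Subtype.ext g.2
          exact (mem_ker F (x := Subgroup.inclusion hle g.1)).1 h1⟩
        map_one' := rfl
        map_mul' := fun _ _ => rfl }
    refine Subgroup.card_dvd_of_injective j fun a b hab => ?_
    have h1 := congrArg Subtype.val hab
    exact Subtype.ext (Subtype.ext h1)
  · refine Subgroup.card_dvd_of_le ?_
    rintro _ ⟨g, rfl⟩
    rw [mem_centralizer_singleton_iff]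
    have h1 := mem_centralizer_singleton_iff.1 g.2
    have h2 : Subgroup.inclusion hle g * ⟨ev γ w, ev_mem_sub hw⟩ = ⟨ev γ w, ev_mem_sub hw⟩ * Subgroup.inclusion hle g :=
      Subtype.ext h1
    have h3 := congrArg (fun t => ((f t : alternatingGroup (Fin 9)) : Equiv.Perm (Fin 9))) h2
    simp only [map_mul, Subgroup.coe_mul, F.word w hw] at h3
    exact h3

omit F in
/-- the centralizer in `C` -/
theorem card_cent_C {w : List ℕ} (hw : ∀ x ∈ w, isC x = true) {k : ℕ} (hk : ev γ w ^ k = γ 1) :
    Nat.card (centralizer ({(⟨ev γ w, ev_mem_sub hw⟩ : sub γ isC)} : Set (sub γ isC))) =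
      Nat.card (centralizer ({ev γ w} : Set G)) := by
  have hle := cent_le h hk
  refine Nat.card_congr
    { toFun := fun g => ⟨g.1.1, mem_centralizer_singleton_iff.2
        (congrArg Subtype.val (mem_centralizer_singleton_iff.1 g.2))⟩
      invFun := fun g => ⟨⟨g.1, hle g.2⟩, mem_centralizer_singleton_iff.2
        (Subtype.ext (mem_centralizer_singleton_iff.1 g.2))⟩
      left_inv := fun _ => rfl
      right_inv := fun _ => rfl }

/-- **Lower bound**: the order of the centralizer. -/
theorem cent_ge {w : List ℕ} (hw : ∀ x ∈ w, isC x = true) {k : ℕ} (hk : ev γ w ^ k = γ 1) :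
    Nat.card (centralizer ({pm9 w} : Set (Equiv.Perm (Fin 9)))) ≤
      2 * Nat.card (centralizer ({ev γ w} : Set G)) := by
  have hfin := h.fin
  set x : sub γ isC := ⟨ev γ w, ev_mem_sub hw⟩ with hx
  have hcx := card_conj x
  have hcp := card_conj (pm9 w)
  rw [card_cent_C h hw hk, h.cardC] at hcx
  have h9 : Nat.card (Equiv.Perm (Fin 9)) = 362880 := by
    rw [Nat.card_perm, Nat.card_fin]
    rfl
  rw [h9] at hcp
  choose s hs using F.surj
  -- the injection
  have hinj : Nat.card {y : sub γ isC // IsConj x y} ≤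
      Nat.card ({σ : Equiv.Perm (Fin 9) // IsConj (pm9 w) σ} × ↥(Q0 γ)) := by
    have := finC h
    refine Nat.card_le_card_of_injective (fun y => (⟨((f y.1 : alternatingGroup (Fin 9)) : Equiv.Perm (Fin 9)), ?_⟩,
      ⟨((y.1 * (s (f y.1))⁻¹ : sub γ isC) : G), ?_⟩)) ?_
    · have h1 := (((alternatingGroup (Fin 9)).subtype.comp f).map_isConj y.2)
      have h2 : ((alternatingGroup (Fin 9)).subtype.comp f) x = pm9 w := F.word w hw
      rw [h2] at h1
      exact h1
    · refine (mem_ker F).1 ?_
      rw [MonoidHom.mem_ker, map_mul, map_inv, hs, mul_inv_cancel]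
    · intro a b hab
      have h1 : f a.1 = f b.1 := Subtype.ext (congrArg (fun t => t.1.1) hab)
      have h2 : (a.1 * (s (f a.1))⁻¹ : sub γ isC) = b.1 * (s (f b.1))⁻¹ :=
        Subtype.ext (congrArg (fun t => t.2.1) hab)
      rw [h1] at h2
      exact Subtype.ext (mul_right_cancel h2)
  rw [Nat.card_prod, h.cardQ] at hinj
  set m := Nat.card {y : sub γ isC // IsConj x y}
  set p := Nat.card {σ : Equiv.Perm (Fin 9) // IsConj (pm9 w) σ}
  set c := Nat.card (centralizer ({pm9 w} : Set (Equiv.Perm (Fin 9))))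
  set d := Nat.card (centralizer ({ev γ w} : Set G))
  have hm : 0 < m := by
    rcases Nat.eq_zero_or_pos m with h0 | h0
    · rw [h0] at hcx
      omega
    · exact h0
  have h1 : m * c ≤ m * (2 * d) := by
    calc m * c ≤ p * 512 * c := Nat.mul_le_mul_right c hinj
      _ = 512 * (p * c) := by ring
      _ = 2 * (m * d) := by rw [hcp, hcx]
      _ = m * (2 * d) := by ring
  exact Nat.le_of_mul_le_mul_left h1 hm

end

end Cfsg.Agent.H653.ThE
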