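import Cfsg.Agent.H676.Deg.ThLoc
import Cfsg.Agent.H871.Th7.Abs

/-!
# Sylow subgroups of prime order with `C(y) = ⟨y⟩` (helper653)

* `rel_eq` : `|N(P) : C(P)| = (|G| / p) mod p`;
* `conj_all` : `|N(P) : C(P)| = p - 1`: the elements of order `p` are conjugate.
-/

set_option autoImplicit false

open Cfsg

namespace Cfsg.Agent.H653.ThE

open Subgroup
open Cfsg.Agent.H676.Deg
open Cfsg.Agent.Characters.Core Cfsg.Agent.SmallSimple.PrimeDual
open Cfsg.Agent.SmallSimple.ThetaSetup Cfsg.Agent.SmallSimple.ThetaOrtho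
open Cfsg.Agent.SmallSimple.TheoremC Cfsg.Agent.SmallSimple.TheoremCCor

universe u

variable {G : Type u} [Group G] [Finite G] {p : ℕ} [Fact p.Prime] {P : Sylow p G} {K : Subgroup G}

/-- the inertial index from Sylow's theorem -/
theorem rel_eq (hK : IsComp p (P : Subgroup G) K) (hP : Nat.card P = p) (hK1 : Nat.card K = 1) {e : ℕ}
    (he : Nat.card G / p % p = e) (he0 : 0 < e) :
    (centralizer ((P : Subgroup G) : Set G)).relIndex (normalizer ((P : Subgroup G) : Set G)) = e := by
  have hp : p.Prime := Fact.out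
  have h1 := relIndex_dvd hK hP
  set d := (centralizer ((P : Subgroup G) : Set G)).relIndex (normalizer ((P : Subgroup G) : Set G)) with hd
  have hc : Nat.card (centralizer ((P : Subgroup G) : Set G)) = p := by
    have h2 := card_centralizer hK hP
    rw [h2, hK1, mul_one]
  have hle : centralizer ((P : Subgroup G) : Set G) ≤ normalizer ((P : Subgroup G) : Set G) :=
    Subgroup.centralizer_le_normalizer _
  have h3 : Nat.card (normalizer ((P : Subgroup G) : Set G)) = p * d := by
    have h4 := Subgroup.relIndex_mul_relIndex ⊥ _ _ bot_le hle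
    rw [Subgroup.relIndex_bot_left, Subgroup.relIndex_bot_left, hc] at h4
    exact h4.symm
  have h5 : Nat.card G = p * (d * Nat.card (Sylow p G)) := by
    have h6 := (normalizer ((P : Subgroup G) : Set G)).card_mul_index
    have h7 : Nat.card (Sylow p G) = (normalizer ((P : Subgroup G) : Set G)).index :=
      Sylow.card_eq_index_normalizer P
    rw [h3, ← h7] at h6
    rw [← h6, mul_assoc]
  have h7 : Nat.card (Sylow p G) ≡ 1 [MOD p] := card_sylow_modEq_one p G
  have h8 : Nat.card G / p % p = d % p := by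
    rw [h5, Nat.mul_div_cancel_left _ hp.pos]
    have h9 := h7.mul_left d
    rw [mul_one] at h9
    exact h9
  have h10 : d < p := by
    have h11 := Nat.le_of_dvd (by have := hp.two_le; omega) h1
    have := hp.two_le
    omega
  rw [he, Nat.mod_eq_of_lt h10] at h8
  exact h8.symm

/-- **the elements of order `p`** -/
theorem conj_all (hP : Nat.card P = p) 
    (he : (centralizer ((P : Subgroup G) : Set G)).relIndex (normalizer ((P : Subgroup G) : Set G)) = p - 1)
    {x y : G} (hx : x ∈ (P : Subgroup G)) (hx1 : x ≠ 1) (hy : orderOf y = p) : IsConj x y := by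
  have hp : p.Prime := Fact.out
  obtain ⟨K, hK⟩ := exists_isComp P hP
  have hyp : IsPGroup p (zpowers y) := IsPGroup.of_card (n := 1) (by rw [Nat.card_zpowers, hy, pow_one])
  obtain ⟨Q, hQ⟩ := hyp.exists_le_sylow
  obtain ⟨g, hg⟩ := MulAction.exists_smul_eq G Q P
  have hy' : g * y * g⁻¹ ∈ (P : Subgroup G) := by
    rw [← hg]
    exact Subgroup.smul_mem_pointwise_smul y (MulAut.conj g) Q (hQ (mem_zpowers y))
  have hy1 : g * y * g⁻¹ ≠ 1 := by
    intro h
    have h2 := conj_eq_one_iff.1 h
    rw [h2, orderOf_one] at hy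
    exact hp.one_lt.ne hy
  have hx1' : (⟨x, hx⟩ : P) ≠ 1 := fun h => hx1 (congrArg Subtype.val h)
  obtain ⟨r, hr⟩ := exists_mulAut hp hP hx1' (y := (⟨g * y * g⁻¹, hy'⟩ : P)) (fun h => hy1 (congrArg Subtype.val h))
  have hcard := card_stabAct_one hK hP
  rw [he] at hcard
  have htop : stabAct hK (1 : K → ℂ) = ⊤ := by
    apply Subgroup.eq_top_of_card_eq
    have : IsCyclic P := isCyclic_of_prime_card hP
    rw [hcard, IsCyclic.card_mulAut, hP, Nat.totient_prime hp]
  have hrE : r ∈ stabAct hK (1 : K → ℂ) := by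
    rw [htop]
    exact mem_top _
  obtain ⟨n, -, h1, -⟩ := (mem_stabAct hK _).1 hrE
  have h2 := h1 ⟨x, hx⟩
  rw [hr] at h2
  refine IsConj.trans (isConj_iff.2 ⟨n, h2.symm⟩) (isConj_iff.2 ⟨g⁻¹, ?_⟩)
  change g⁻¹ * (g * y * g⁻¹) * g⁻¹⁻¹ = y
  group

end Cfsg.Agent.H653.ThE
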