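import Cfsg.Agent.H904.SV.ThClasses
import Cfsg.Agent.ThType.CSideWords

/-!
# A nine bit model of `O₂(C(a))` in the Thompson group (helper653)

`bx γ i` (`i < 8`) is a symplectic basis of `Q0 γ = O₂(C(a))`, given by words; `ι (γ 1) (bx γ) n` is the
element with code `n < 512`. Everything is checked by the oracle `corc`.
-/

set_option autoImplicit false
set_option maxRecDepth 100000

namespace Cfsg.Agent.H653.ThE

open Cfsg.Agent.Th.Base Cfsg.Agent.Th.Word Cfsg.Agent.Th.RelWords Cfsg.Agent.Th.PermTab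
  Cfsg.Agent.Th.KOracle Cfsg.Agent.Th.KPerm Cfsg.Agent.Th.NineAct Cfsg.Agent.Th.CStruct
  Cfsg.Agent.Th.COracleDef Cfsg.Agent.Th.COracleSound
open Cfsg.Agent.KFacts.Th.Mask Cfsg.Agent.KFacts.Th.Struct
open Cfsg.Agent.CpAutTh.Data Cfsg.Agent.CpAutTh.Alt Cfsg.Agent.CpAutTh.Local
open Cfsg.Agent.ThType.CSideModel (pw Basis ι lo hi par4 nmul app img Acts ι_nmul ι_zero ι_z ι_gen)
open Cfsg.Agent.ThType.CSideWords (ninv ι_ninv ι_congr)

universe u

/-- the words of the basis -/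
def xwl : List (List ℕ) :=
  [[4, 3, 4], [6, 11, 4, 3, 4, 10, 7], [6, 6, 11, 4, 3, 4, 10, 7, 7], [8, 6, 11, 4, 3, 4, 10, 7, 9],
   [5, 4, 3, 4, 5], [7, 11, 5, 4, 3, 4, 5, 10, 6], [7, 7, 11, 5, 4, 3, 4, 5, 10, 6, 6],
   [8, 7, 11, 5, 4, 3, 4, 5, 10, 6, 9]]

/-- the word of `x i` -/
def xw (i : ℕ) : List ℕ := xwl.getD i []

/-- the elements of the basis -/
def bx {G : Type u} [Group G] (γ : ℕ → G) (i : Fin 8) : G := ev γ (xw i)

/-- the word of the factor number `i` -/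
def bw (n i : ℕ) : List ℕ := Bool.rec [] (xw i) (n.testBit i)

/-- the word of the element with code `n` -/
def wcode (n : ℕ) : List ℕ :=
  (Bool.rec [] [1] (n.testBit 8) : List ℕ) ++ (bw n 0 ++ (bw n 1 ++ (bw n 2 ++ (bw n 3 ++ (bw n 4 ++ (bw n 5 ++
    (bw n 6 ++ bw n 7)))))))

theorem xw_isC : ∀ i < 8, ∀ x ∈ xw i, isC x = true := by decide +kernel

/-- all relations of the basis -/
theorem rel_check : allB 8 (fun i => allB 8 fun j =>
    corc (xw i ++ (xw j ++ (iw (xw i) ++ (iw (xw j) ++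
      (Bool.rec [] [1] (or (Nat.beq (i + 4) j) (Nat.beq (j + 4) i)) : List ℕ)))))) = true := by
  decide +kernel

theorem sq_check' : allB 8 (fun i => corc (xw i ++ xw i)) = true := by decide +kernel

theorem pm_check' : ∀ i < 8, pm9 (xw i) = 1 := by decide +kernel

/-- codes of the nine involutions -/
def ccl : List ℕ := [255, 1, 16, 157, 179, 87, 217, 117, 59]

theorem cc_check : allB 9 (fun i => corc (wc i ++ iw (wcode (ccl.getD i 0)))) = true := by decide +kernel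

section

variable {G : Type u} [Group G] {γ : ℕ → G} (h : Ctx γ)
include h

theorem basis : Basis (γ 1) (bx γ) := by
  have hC : ∀ i : Fin 8, bx γ i * γ 1 = γ 1 * bx γ i := fun i => h.mem_C.1 (ev_mem_sub (xw_isC i i.2))
  have hr : ∀ i j : Fin 8, bx γ i * bx γ j * ((bx γ j * bx γ i)⁻¹ *
      ev γ (Bool.rec [] [1] (or (Nat.beq (i + 4) j) (Nat.beq (j + 4) i)) : List ℕ)) = 1 := by
    intro i j
    have h1 := ev_one h ((allB_iff _ _).1 ((allB_iff _ _).1 rel_check i i.2) j j.2)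
    rw [ev_append, ev_append, ev_append, ev_append, ev_iw h.inv, ev_iw h.inv] at h1
    rw [← h1]
    unfold bx
    group
  refine ⟨h.aa, hC, fun i => ?_, fun i => ?_, fun i j h1 h2 => ?_⟩
  · have h1 := ev_one h ((allB_iff _ _).1 sq_check' i i.2)
    rw [ev_append] at h1
    exact h1
  · have h1 := hr ⟨i.1 + 4, by omega⟩ ⟨i.1, by omega⟩
    have h2 : (or (Nat.beq (i.1 + 4 + 4) i.1) (Nat.beq (i.1 + 4) (i.1 + 4))) = true := by
      rw [Bool.or_eq_true, Nat.beq_eq, Nat.beq_eq]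
      exact Or.inr rfl
    simp only [h2] at h1
    rw [ev_singleton, ← mul_assoc, mul_eq_one_iff_eq_inv, mul_inv_eq_iff_eq_mul, ] at h1
    rw [h1]
    congr 1
    rw [inv_eq_iff_mul_eq_one]
    exact h.aa
  · have h3 := hr i j
    have h4 : (or (Nat.beq (i.1 + 4) j.1) (Nat.beq (j.1 + 4) i.1)) = false := by
      rw [Bool.or_eq_false_iff]
      constructor
      · rw [← Bool.not_eq_true, Nat.beq_eq]; exact h1
      · rw [← Bool.not_eq_true, Nat.beq_eq]; exact h2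
    simp only [h4, ev_nil, mul_one] at h3
    exact mul_inv_eq_one.1 h3

omit h in
theorem ev_bw (n : ℕ) (i : Fin 8) : ev γ (bw n i) = pw (bx γ i) (n.testBit i) := by
  unfold bw bx
  cases n.testBit i <;> rfl

omit h in
/-- the word of the code -/
theorem ev_wcode (n : ℕ) : ev γ (wcode n) = ι (γ 1) (bx γ) n := by
  have e0 : ev γ (bw n 0) = pw (bx γ 0) (n.testBit 0) := ev_bw n 0
  have e1 : ev γ (bw n 1) = pw (bx γ 1) (n.testBit 1) := ev_bw n 1
  have e2 : ev γ (bw n 2) = pw (bx γ 2) (n.testBit 2) := ev_bw n 2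
  have e3 : ev γ (bw n 3) = pw (bx γ 3) (n.testBit 3) := ev_bw n 3
  have e4 : ev γ (bw n 4) = pw (bx γ 4) (n.testBit 4) := ev_bw n 4
  have e5 : ev γ (bw n 5) = pw (bx γ 5) (n.testBit 5) := ev_bw n 5
  have e6 : ev γ (bw n 6) = pw (bx γ 6) (n.testBit 6) := ev_bw n 6
  have e7 : ev γ (bw n 7) = pw (bx γ 7) (n.testBit 7) := ev_bw n 7
  have e8 : ev γ (Bool.rec [] [1] (n.testBit 8) : List ℕ) = pw (γ 1) (n.testBit 8) := by
    cases n.testBit 8
    · rfl
    · simp [pw]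
  unfold wcode ι lo hi
  rw [ev_append, ev_append, ev_append, ev_append, ev_append, ev_append, ev_append, ev_append, e0, e1, e2, e3, e4,
    e5, e6, e7, e8]
  simp only [mul_assoc]

/-- the elements with a code are in `Q` -/
theorem ι_mem (n : ℕ) : ι (γ 1) (bx γ) n ∈ Q0 γ := by
  obtain ⟨f, F⟩ := exists_epi h
  have hx : ∀ i : Fin 8, bx γ i ∈ Q0 γ := by
    intro i
    have h1 := mem_ker F (x := ⟨ev γ (xw i), ev_mem_sub (xw_isC i i.2)⟩)
    refine h1.1 (MonoidHom.mem_ker.2 (Subtype.ext ?_))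
    rw [F.word _ (xw_isC i i.2), pm_check' i i.2]
    rfl
  have hp : ∀ (y : G) (_ : y ∈ Q0 γ) (b : Bool), pw y b ∈ Q0 γ := by
    intro y hy b
    cases b
    · exact Subgroup.one_mem _
    · exact hy
  unfold ι lo hi
  exact Subgroup.mul_mem _ (hp _ h.a_mem _) (Subgroup.mul_mem _
    (Subgroup.mul_mem _ (Subgroup.mul_mem _ (hp _ (hx _) _) (hp _ (hx _) _))
      (Subgroup.mul_mem _ (hp _ (hx _) _) (hp _ (hx _) _)))
    (Subgroup.mul_mem _ (Subgroup.mul_mem _ (hp _ (hx _) _) (hp _ (hx _) _))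
      (Subgroup.mul_mem _ (hp _ (hx _) _) (hp _ (hx _) _))))

omit h in
theorem ι_mod (z : G) (x : Fin 8 → G) (n : ℕ) : ι z x (n % 512) = ι z x n := by
  apply ι_congr
  intro i hi
  rw [show (512 : ℕ) = 2 ^ 9 by norm_num, Nat.testBit_mod_two_pow]
  simp [hi]

/-- every element of `Q` has a code -/
theorem exists_code {q : G} (hq : q ∈ Q0 γ) : ∃ n < 512, q = ι (γ 1) (bx γ) n := by
  have B := basis h
  have key : ∃ n, q = ι (γ 1) (bx γ) n := by
    refine Subgroup.closure_induction (p := fun q _ => ∃ n, q = ι (γ 1) (bx γ) n) ?_ ?_ ?_ ?_ hq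
    · rintro y (rfl | ⟨j, rfl⟩)
      · exact ⟨256, ι_z.symm⟩
      · refine ⟨ccl.getD j 0, ?_⟩
        have h1 := ev_one h ((allB_iff _ _).1 cc_check j j.2)
        rw [ev_append, ev_iw h.inv, ev_wcode, mul_inv_eq_one] at h1
        exact h1
    · exact ⟨0, ι_zero.symm⟩
    · rintro _ _ _ _ ⟨m, rfl⟩ ⟨n, rfl⟩
      exact ⟨nmul m n, (ι_nmul B m n).symm⟩
    · rintro _ _ ⟨m, rfl⟩
      exact ⟨ninv m, (ι_ninv B m).symm⟩
  obtain ⟨n, rfl⟩ := key
  exact ⟨n % 512, Nat.mod_lt _ (by norm_num), (ι_mod _ _ n).symm⟩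

/-- the code is unique -/
theorem ι_inj {m n : ℕ} (hm : m < 512) (hn : n < 512) (hmn : ι (γ 1) (bx γ) m = ι (γ 1) (bx γ) n) : m = n := by
  have := h.fin
  let F : Fin 512 → Q0 γ := fun i => ⟨ι (γ 1) (bx γ) i, ι_mem h i⟩
  have hs : Function.Surjective F := by
    rintro ⟨q, hq⟩
    obtain ⟨n, hn, rfl⟩ := exists_code h hq
    exact ⟨⟨n, hn⟩, rfl⟩
  have hb : Function.Bijective F := by
    rw [Function.Surjective.bijective_of_nat_card_le hs (by rw [h.cardQ, Nat.card_fin]) |> iff_true_intro] 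
    trivial
  have h1 := hb.1 (a₁ := ⟨m, hm⟩) (a₂ := ⟨n, hn⟩) (Subtype.ext hmn)
  exact congrArg Fin.val h1

/-- the table of a word -/
def chkA (w : List ℕ) (L : List ℕ) : Bool :=
  and (allL isC w) (allB 8 fun i => corc (w ++ (xw i ++ (iw w ++ iw (wcode (img L i))))))

theorem acts {w L : List ℕ} (hc : chkA w L = true) : Acts (γ 1) (bx γ) (ev γ w) L := by
  unfold chkA at hc
  rw [Bool.and_eq_true, allL_iff, allB_iff] at hc
  refine ⟨h.mem_C.1 (ev_mem_sub hc.1), fun i => ?_⟩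
  have h1 := ev_one h (hc.2 i i.2)
  rw [ev_append, ev_append, ev_append, ev_iw h.inv, ev_iw h.inv, ev_wcode, ← mul_assoc, ← mul_assoc,
    mul_inv_eq_one] at h1
  exact h1

end

end Cfsg.Agent.H653.ThE
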