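import Cfsg.Agent.H653.ThE.Model

/-!
# Orbits in a coset of `O₂(C(a))` (helper653)

`step` : conjugation of `ι n * y` by elements of `Q0` and by words of `C`; `orbit` : soundness of a packed table of
predecessors.
-/

set_option autoImplicit false
set_option maxRecDepth 100000

namespace Cfsg.Agent.H653.ThE

open Cfsg.Agent.Th.Base Cfsg.Agent.Th.Word Cfsg.Agent.Th.RelWords Cfsg.Agent.Th.PermTab
  Cfsg.Agent.Th.KOracle Cfsg.Agent.Th.KPerm Cfsg.Agent.Th.NineAct Cfsg.Agent.Th.CStruct
  Cfsg.Agent.Th.COracleDef Cfsg.Agent.Th.COracleSound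
open Cfsg.Agent.KFacts.Th.Mask Cfsg.Agent.KFacts.Th.Struct
open Cfsg.Agent.CpAutTh.Data Cfsg.Agent.CpAutTh.Alt Cfsg.Agent.CpAutTh.Local
open Cfsg.Agent.ThType.CSideModel (pw Basis ι lo hi par4 nmul app img Acts ι_nmul ι_zero ι_z ι_gen)
open Cfsg.Agent.ThType.CSideWords (ninv ι_ninv ι_congr)

universe u

/-- conjugation by the element of `Q` with code `m` -/
def stepQ (L : List ℕ) (m n : ℕ) : ℕ := nmul (nmul m n) (ninv (app L m))

/-- conjugation by a word with table `t` and `c y c⁻¹ = ι k y` -/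
def stepC (t : List ℕ) (k n : ℕ) : ℕ := nmul (app t n) k

/-- one step -/
def step (L : List ℕ) (gs : List (List ℕ × ℕ)) (a n : ℕ) : ℕ :=
  bif Nat.blt a 512 then stepQ L a n else
    match gs[a - 512]? with
    | some g => stepC g.1 g.2 n
    | none => n

/-- the entry of the table -/
def ent (T n : ℕ) : ℕ := Nat.land (Nat.shiftRight T (Nat.mul 32 n)) 4294967295
def epar (e : ℕ) : ℕ := Nat.land e 511
def egen (e : ℕ) : ℕ := Nat.land (Nat.shiftRight e 9) 1023
def ernk (e : ℕ) : ℕ := Nat.shiftRight e 19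

/-- the check of the table at `n` -/
def chk (L : List ℕ) (gs : List (List ℕ × ℕ)) (n0 T : ℕ) (good : ℕ → Bool) (n : ℕ) : Bool :=
  or (not (good n)) (or (Nat.beq n n0) (and (good (epar (ent T n)))
    (and (Nat.blt (ernk (ent T (epar (ent T n)))) (ernk (ent T n)))
      (Nat.beq (step L gs (egen (ent T n)) (epar (ent T n))) n))))

theorem epar_lt (e : ℕ) : epar e < 512 := by
  unfold epar
  exact lt_of_le_of_lt Nat.and_le_right (by norm_num)

section

variable {G : Type u} [Group G] {γ : ℕ → G} (h : Ctx γ)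
include h

/-- conjugation by `Q` -/
theorem conjQ {y : G} {L : List ℕ} (A : Acts (γ 1) (bx γ) y L) (m n : ℕ) :
    ι (γ 1) (bx γ) m * (ι (γ 1) (bx γ) n * y) * (ι (γ 1) (bx γ) m)⁻¹ = ι (γ 1) (bx γ) (stepQ L m n) * y := by
  have B := basis h
  unfold stepQ
  rw [ι_nmul B, ι_nmul B, ι_ninv B, ← A.conj B m]
  group

/-- conjugation by `c` -/
theorem conjC {y c : G} {t : List ℕ} {k : ℕ} (A : Acts (γ 1) (bx γ) c t) (hk : c * y * c⁻¹ = ι (γ 1) (bx γ) k * y)
    (n : ℕ) : c * (ι (γ 1) (bx γ) n * y) * c⁻¹ = ι (γ 1) (bx γ) (stepC t k n) * y := by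
  have B := basis h
  unfold stepC
  rw [ι_nmul B, ← A.conj B n, mul_assoc _ _ y, ← hk]
  group

/-- **Soundness of the table**. -/
theorem orbit {y : G} {L : List ℕ} (A : Acts (γ 1) (bx γ) y L) (gs : List (List ℕ × ℕ))
    (hgs : ∀ g ∈ gs, ∃ c : G, Acts (γ 1) (bx γ) c g.1 ∧ c * y * c⁻¹ = ι (γ 1) (bx γ) g.2 * y)
    {n0 T : ℕ} {good : ℕ → Bool} (hc : allB 512 (chk L gs n0 T good) = true) {n : ℕ} (hn : n < 512)
    (hg : good n = true) : ∃ c ∈ sub γ isC, c * (ι (γ 1) (bx γ) n0 * y) * c⁻¹ = ι (γ 1) (bx γ) n * y := by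
  rw [allB_iff] at hc
  have key : ∀ r : ℕ, ∀ n < 512, good n = true → ernk (ent T n) ≤ r →
      ∃ c ∈ sub γ isC, c * (ι (γ 1) (bx γ) n0 * y) * c⁻¹ = ι (γ 1) (bx γ) n * y := by
    intro r
    induction r with
    | zero =>
      intro n hn hg hr
      have h1 := hc n hn
      unfold chk at h1
      rw [hg, Bool.not_true, Bool.false_or, Bool.or_eq_true] at h1
      rcases h1 with h1 | h1
      · rw [Nat.beq_eq] at h1
        subst h1
        exact ⟨1, Subgroup.one_mem _, by group⟩
      · rw [Bool.and_eq_true, Bool.and_eq_true] at h1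
        have h2 : ernk (ent T (epar (ent T n))) < ernk (ent T n) := by simpa using h1.2.1
        omega
    | succ r ih =>
      intro n hn hg hr
      have h1 := hc n hn
      unfold chk at h1
      rw [hg, Bool.not_true, Bool.false_or, Bool.or_eq_true] at h1
      rcases h1 with h1 | h1
      · rw [Nat.beq_eq] at h1
        subst h1
        exact ⟨1, Subgroup.one_mem _, by group⟩
      · rw [Bool.and_eq_true, Bool.and_eq_true, Nat.beq_eq] at h1
        have h2 : ernk (ent T (epar (ent T n))) < ernk (ent T n) := by simpa using h1.2.1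
        obtain ⟨c, hcC, hc1⟩ := ih _ (epar_lt _) h1.1 (by omega)
        have h3 := h1.2.2
        unfold step at h3
        cases hb : Nat.blt (egen (ent T n)) 512
        · rw [hb, cond_false] at h3
          rcases hm : gs[egen (ent T n) - 512]? with _ | g
          · rw [hm] at h3
            exact ⟨c, hcC, by rw [hc1]; exact congrArg (fun k => ι (γ 1) (bx γ) k * y) h3⟩
          · rw [hm] at h3
            obtain ⟨d, hd, hd2⟩ := hgs g (List.mem_of_getElem? hm)
            refine ⟨d * c, Subgroup.mul_mem _ (h.mem_C.2 hd.z_comm) hcC, ?_⟩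
            have h4 := conjC h hd hd2 (epar (ent T n))
            have h3' : stepC g.1 g.2 (epar (ent T n)) = n := h3
            rw [h3', ← hc1] at h4
            rw [← h4]
            group
        · rw [hb, cond_true] at h3
          refine ⟨ι (γ 1) (bx γ) (egen (ent T n)) * c, Subgroup.mul_mem _ (h.Q_le (ι_mem h _)) hcC, ?_⟩
          have h4 := conjQ h A (egen (ent T n)) (epar (ent T n))
          rw [h3, ← hc1] at h4
          rw [← h4]
          group
  exact key _ n hn hg le_rfl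

/-- squares in a coset -/
theorem sq_coset {y : G} {L : List ℕ} (A : Acts (γ 1) (bx γ) y L) {p : ℕ} (hp : y ^ 2 = ι (γ 1) (bx γ) p) (n : ℕ) :
    (ι (γ 1) (bx γ) n * y) ^ 2 = ι (γ 1) (bx γ) (nmul (nmul n (app L n)) p) := by
  have B := basis h
  have e : ∀ u : G, u ^ 2 = u * u := pow_two
  rw [ι_nmul B, ι_nmul B, ← A.conj B n, ← hp, e (_ * y)]
  group

/-- fourth powers in a coset -/
theorem four_coset {y : G} {L : List ℕ} (A : Acts (γ 1) (bx γ) y L) {p : ℕ} (hp : y ^ 4 = ι (γ 1) (bx γ) p) (n : ℕ) :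
    (ι (γ 1) (bx γ) n * y) ^ 4 = ι (γ 1) (bx γ)
      (nmul (nmul (nmul n (app L n)) (app L (app L (nmul n (app L n))))) p) := by
  have B := basis h
  have e : ∀ u : G, u ^ 4 = u * u * (u * u) := fun u => by rw [← pow_two, ← pow_two, ← pow_mul]
  rw [ι_nmul B, ι_nmul B, ← A.conj B (app L _), ← A.conj B (nmul _ _), ι_nmul B, ← A.conj B n, ← hp, e (_ * y)]
  group

end

end Cfsg.Agent.H653.ThE
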